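import Groth.Agent.AlgSec27.Crit
import Groth.Agent.LC15.Gamma

/-!
Cocycles die in degrees above the cohomological dimension.
-/

set_option autoImplicit false
set_option backward.isDefEq.respectTransparency.types false

universe u

open CategoryTheory CategoryTheory.Limits

noncomputable section

namespace Groth.Agent.AlgSec27

open KosPro27 LC15

variable {A : Type u} [CommRing A] {I : Ideal A} {l : List A}

theorem ker_φ_le_range [IsNoetherianRing A] (t n : ℕ) :
    ∃ (m : ℕ) (h : n ≤ m), ∀ w : (kosA l).X (t + 1) m, (kosA l).d t m w = 0 →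
      ∃ u, (kosA l).d (t + 1) n u = (kosA l).φ (t + 1) h w := by
  haveI : IsNoetherian A ((𝟭 (ModuleCat.{u} A)).obj (ModuleCat.of A A)) := inferInstanceAs (IsNoetherian A A)
  exact hPro_kos (𝟭 (ModuleCat.{u} A)) (ModuleCat.of A A) (bddTors_of_isNoetherian (B := A)) l t n

theorem exists_comp_eq_of_injective [IsNoetherianRing A] (t : ℕ) {E : Type u} [AddCommGroup E] [Module A E]
    [Module.Injective A E] (n : ℕ) (u : (kosA l).X (t + 1) n ⟶ ModuleCat.of A E)
    (hu : (kosA l).d (t + 1) n ≫ u = 0) :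
    ∃ (m : ℕ) (h : n ≤ m) (v : (kosA l).X t m ⟶ ModuleCat.of A E), (kosA l).φ (t + 1) h ≫ u = (kosA l).d t m ≫ v := by
  let K := kosA l
  obtain ⟨m, hm, hker⟩ := ker_φ_le_range (l := l) t n
  let f := (K.φ (t + 1) hm ≫ u).hom
  let D := (K.d t m).hom
  have hle : LinearMap.ker D ≤ LinearMap.ker f := fun w hw => by
    obtain ⟨z, hz⟩ := hker w hw
    show u (K.φ (t + 1) hm w) = 0
    rw [← hz, ← ModuleCat.comp_apply, hu]
    rfl
  let D' : (K.X (t + 1) m ⧸ LinearMap.ker D) →ₗ[A] K.X t m := Submodule.liftQ _ D le_rfl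
  have hD' : Function.Injective D' := LinearMap.ker_eq_bot.1 (Submodule.ker_liftQ_eq_bot' _ _ rfl)
  obtain ⟨v, hv⟩ := Module.Injective.out D' hD' (Submodule.liftQ _ f hle)
  refine ⟨m, hm, ModuleCat.ofHom v, ModuleCat.hom_ext (LinearMap.ext fun x => ?_)⟩
  exact (hv (Submodule.Quotient.mk x)).symm

variable (hl : I = Ideal.span {g | g ∈ l})
include hl

theorem exists_pow_le_kill (n : ℕ) [IsNoetherianRing A] : ∃ c : ℕ, I ^ c ≤ kill (A := A) (kosA l) n := by
  obtain ⟨a, ha⟩ := exists_pow_le_powI I hl n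
  obtain ⟨b, hb⟩ := Ideal.exists_pow_le_of_le_radical_of_fg (powI_le_radical_kill (ModuleCat.of A A) l n)
    (IsNoetherian.noetherian _)
  exact ⟨a * b, by rw [pow_mul]; exact (Ideal.pow_right_mono ha b).trans hb⟩

/-- Cocycles die in the degrees in which local cohomology vanishes. -/
theorem dies_of_H [IsNoetherianRing A] : ∀ (t : ℕ) (N : Type u) [AddCommGroup N] [Module A N],
    Subsingleton (LocCoh.H I (t + 1) N) → Dies l 1 t (ModuleCat.of A N)
  | t, N, _, _, hN => by
    obtain ⟨E, _, _, ι, hι, hE⟩ := exists_injective_embedding (R := A) N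
    let π := (LinearMap.range ι).mkQ
    have hex : Function.Exact ι π := LinearMap.exact_map_mkQ_range ι
    have hπ : Function.Surjective π := Submodule.mkQ_surjective _
    let ι' : ModuleCat.of A N ⟶ ModuleCat.of A E := ModuleCat.ofHom ι
    let π' : ModuleCat.of A E ⟶ ModuleCat.of A (E ⧸ LinearMap.range ι) := ModuleCat.ofHom π
    haveI : Mono ι' := (ModuleCat.mono_iff_injective _).2 hι
    haveI : Epi π' := (ModuleCat.epi_iff_surjective _).2 hπ
    have hιπ : ι' ≫ π' = 0 := ModuleCat.hom_ext hex.linearMap_comp_eq_zero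
    let K := kosA l
    have hlift : ∀ {X : ModuleCat.{u} A} (f : X ⟶ ModuleCat.of A E), f ≫ π' = 0 →
        ∃ f' : X ⟶ ModuleCat.of A N, f' ≫ ι' = f := fun f hf => by
      obtain ⟨f₁, hf₁⟩ := exists_codRestrict (LinearMap.range ι) f hf
      refine ⟨f₁ ≫ ModuleCat.ofHom (LinearEquiv.ofInjective ι hι).symm.toLinearMap, ?_⟩
      rw [← hf₁]
      refine ModuleCat.hom_ext (LinearMap.ext fun x => ?_)
      exact congrArg Subtype.val ((LinearEquiv.ofInjective ι hι).apply_symm_apply (f₁ x))
    intro n u hu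
    obtain ⟨m, hm, v, hv⟩ := exists_comp_eq_of_injective t n (u ≫ ι') (by rw [← Category.assoc, hu, zero_comp])
    have hcoc : K.d t m ≫ v ≫ π' = 0 := by
      rw [← Category.assoc, ← hv, Category.assoc, Category.assoc, hιπ, comp_zero, comp_zero]
    obtain ⟨m', hm', v₁, v₀, hv₁, hv₀⟩ : ∃ (m' : ℕ) (h : m ≤ m') (v₁ : K.X t m' ⟶ ModuleCat.of A N)
        (v₀ : K.X t m' ⟶ ModuleCat.of A E), v₁ ≫ ι' + v₀ = K.φ t h ≫ v ∧ K.d t m' ≫ v₀ = 0 := by
      cases t with
      | zero =>
        obtain ⟨c, hc⟩ := exists_pow_le_kill hl m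
        let x₀ : E := v ((kosIso (ModuleCat.of A A) l m).inv (1 : A))
        have hx₀ : π x₀ ∈ gamma I (E ⧸ LinearMap.range ι) := ⟨c, fun a ha => by
          have h := congrArg (fun k => k ((kosIso (ModuleCat.of A A) l m).inv (1 : A))) ((hc ha).1 _ (v ≫ π') hcoc)
          exact h⟩
        rw [← range_h0] at hx₀
        obtain ⟨z, hz⟩ := hx₀
        obtain ⟨w, rfl⟩ := (H_exact₃ I 0 hι hex hπ z).1 (Subsingleton.elim _ _)
        rw [h0_Hmap] at hz
        have hγ : h0 I E w ∈ gamma I E := range_h0 I E ▸ LinearMap.mem_range_self _ w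
        generalize h0 I E w = γ at hz hγ
        obtain ⟨N₀, hN₀⟩ := hγ
        let m' := max m N₀
        let q₀ : ModuleCat.of A A ⟶ ModuleCat.of A E := ModuleCat.ofHom (LinearMap.toSpanSingleton A E γ)
        let v₀ := (kosIso (ModuleCat.of A A) l m').hom ≫ q₀
        have hv₀ : K.d 0 m' ≫ v₀ = 0 := by
          rw [d_zero_comp_eq_zero_iff]
          refine (powI_le_pow I l (fun g hg => hl ▸ Ideal.subset_span hg) m').trans fun a ha => ?_
          refine ModuleCat.hom_ext (LinearMap.ext fun b => ?_)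
          show a • b • γ = 0
          rw [smul_comm, hN₀ a (Ideal.pow_le_pow_right (by omega) ha), smul_zero]
        have hπ0 : (K.φ 0 (le_max_left m N₀) ≫ v - v₀) ≫ π' = 0 := by
          rw [← cancel_epi (kosIso (ModuleCat.of A A) l m').inv, comp_zero, Preadditive.sub_comp,
            Preadditive.comp_sub, Category.assoc, Category.assoc, ← Category.assoc _ (K.φ 0 _), kosIso_inv_φ,
            Iso.inv_hom_id_assoc, sub_eq_zero]
          refine ModuleCat.hom_ext (LinearMap.ext_ring ?_)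
          show π x₀ = π ((LinearMap.toSpanSingleton A E γ) 1)
          rw [LinearMap.toSpanSingleton_apply, one_smul, hz]
        obtain ⟨v₁, hv₁⟩ := hlift _ hπ0
        exact ⟨m', le_max_left m N₀, v₁, v₀, by rw [hv₁, sub_add_cancel], hv₀⟩
      | succ t =>
        have hC : Subsingleton (LocCoh.H I (t + 1) (E ⧸ LinearMap.range ι)) :=
          subsingleton_H_right I (t + 1) hι hex hπ (subsingleton_H_succ_of_injective I t) hN
        obtain ⟨m', hm', e, k, hk⟩ := dies_of_H t (E ⧸ LinearMap.range ι) hC m (v ≫ π') hcoc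
        rw [one_pow, one_smul] at hk
        haveI := projective_kosA l t m'
        let k₀ : K.X t m' ⟶ ModuleCat.of A E := Projective.factorThru k π'
        obtain ⟨v₁, hv₁⟩ := hlift (K.φ (t + 1) hm' ≫ v - K.d t m' ≫ k₀) (by
          rw [Preadditive.sub_comp, Category.assoc, Category.assoc,
            show k₀ ≫ π' = k from Projective.factorThru_comp k π', hk, sub_self])
        exact ⟨m', hm', v₁, K.d t m' ≫ k₀, by rw [hv₁, sub_add_cancel], by rw [← Category.assoc, K.dd, zero_comp]⟩
    refine ⟨m', hm.trans hm', 0, v₁, ?_⟩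
    rw [pow_zero, one_smul, ← cancel_mono ι', ← K.φ_comp (t + 1) hm hm', Category.assoc, Category.assoc,
      show K.φ (t + 1) hm ≫ u ≫ ι' = K.d t m ≫ v from hv, ← Category.assoc (K.φ (t + 1) hm'), ← K.d_comm,
      Category.assoc, ← hv₁, Preadditive.comp_add, hv₀, add_zero, Category.assoc]

/-- Cocycles die above the cohomological dimension. -/
theorem dies_of_cdLE [IsNoetherianRing A] {d : ℕ} (hd : LocCoh.CdLE A I d) (t : ℕ) (h : d ≤ t) (N : Type u)
    [AddCommGroup N] [Module A N] : Dies l 1 t (ModuleCat.of A N) :=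
  dies_of_H hl t N (hd N (t + 1) (Nat.lt_succ_of_le h))

end Groth.Agent.AlgSec27
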