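import Groth.Agent.S0328
import Groth.Agent.S17753
import Groth.Agent.LC15.Cd
import Groth.Agent.LC16.DimBetween
import Mathlib.RingTheory.KrullDimension.Zero
import Mathlib.RingTheory.Ideal.KrullsHeightTheorem

/-!
Dimension inequalities for cohomological dimension in a local ring.
-/

set_option autoImplicit false
set_option backward.isDefEq.respectTransparency.types false

universe u

open CategoryTheory

attribute [local instance] HasDerivedCategory.standard

noncomputable section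

namespace Groth.Agent.AlgSec27

open Groth.Agent.LC16

variable {A : Type u} [CommRing A]

theorem topologicalKrullDim_zeroLocus (J : Ideal A) :
    topologicalKrullDim (PrimeSpectrum.zeroLocus (J : Set A)) = ringKrullDim (A ⧸ J) := by
  let φ : A →+* A ⧸ J := Ideal.Quotient.mk J
  have hs : Function.Surjective φ := Ideal.Quotient.mk_surjective
  have hrange : Set.range (PrimeSpectrum.comap φ) = PrimeSpectrum.zeroLocus (J : Set A) := by
    rw [_root_.range_comap_of_surjective _ φ hs, Ideal.mk_ker]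
  let e : PrimeSpectrum (A ⧸ J) ≃ₜ PrimeSpectrum.zeroLocus (J : Set A) :=
    (PrimeSpectrum.isClosedEmbedding_comap_of_surjective _ φ hs).isEmbedding.toHomeomorph.trans
      (Homeomorph.setCongr hrange)
  rw [← e.isHomeomorph.topologicalKrullDim_eq, PrimeSpectrum.topologicalKrullDim_eq_ringKrullDim]

theorem ringKrullDim_quotient_mono {J J' : Ideal A} (h : J ≤ J') :
    ringKrullDim (A ⧸ J') ≤ ringKrullDim (A ⧸ J) :=
  ringKrullDim_le_of_surjective (Ideal.Quotient.factor h) (Ideal.Quotient.factor_surjective h)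

theorem length_le_ringKrullDim (p : PrimeSpectrum A) (l : LTSeries (PrimeSpectrum A)) (h : p ≤ l.head) :
    ((l.length : ℕ∞) : WithBot ℕ∞) ≤ ringKrullDim (A ⧸ p.asIdeal) := by
  rw [ringKrullDim_quotient]
  let m : LTSeries (PrimeSpectrum.zeroLocus (p.asIdeal : Set A)) :=
    { length := l.length
      toFun := fun k => ⟨l k, (h.trans (LTSeries.head_le l k) : p ≤ l k)⟩
      step := fun k => show (⟨l k.castSucc, _⟩ : PrimeSpectrum.zeroLocus (p.asIdeal : Set A)) < ⟨l k.succ, _⟩ from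
        Subtype.mk_lt_mk.2 (l.step k) }
  exact Order.LTSeries.length_le_krullDim m

variable [IsNoetherianRing A] [IsLocalRing A]

theorem exists_dim_eq {J : Ideal A} (hJ : J ≠ ⊤) : ∃ s : ℕ, ringKrullDim (A ⧸ J) = s := by
  haveI : Nontrivial (A ⧸ J) := Ideal.Quotient.nontrivial_iff.2 hJ
  haveI : IsLocalRing (A ⧸ J) := IsLocalRing.of_surjective' (Ideal.Quotient.mk J) Ideal.Quotient.mk_surjective
  have h1 : ringKrullDim (A ⧸ J) ≠ ⊥ := ringKrullDim_ne_bot
  have h2 : ringKrullDim (A ⧸ J) ≠ ⊤ := ringKrullDim_ne_top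
  obtain ⟨v, hv⟩ := WithBot.ne_bot_iff_exists.1 h1
  obtain ⟨s, hs⟩ := ENat.ne_top_iff_exists.1 (show v ≠ ⊤ from fun h => h2 (by rw [← hv, h]; rfl))
  exact ⟨s, by rw [← hv, ← hs]; rfl⟩

/-- `dim A/p ≤ cd(I) + dim A/(I + p)`. -/
theorem dim_le_cd_add {I : Ideal A} (hI : I ≠ ⊤) {e : ℕ} (he : LocCoh.CdLE A I e) (p : Ideal A) [p.IsPrime] :
    ∃ s t : ℕ, ringKrullDim (A ⧸ (I ⊔ p)) = s ∧ ringKrullDim (A ⧸ p) = t ∧ t ≤ e + s := by
  classical
  have hle : I ⊔ p ≤ IsLocalRing.maximalIdeal A :=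
    sup_le (IsLocalRing.le_maximalIdeal hI) (IsLocalRing.le_maximalIdeal (Ideal.IsPrime.ne_top ‹_›))
  have hne : I ⊔ p ≠ ⊤ := fun h => (IsLocalRing.maximalIdeal.isMaximal A).ne_top (top_le_iff.1 (h ▸ hle))
  obtain ⟨s, hs⟩ := exists_dim_eq hne
  obtain ⟨t, ht⟩ := exists_dim_eq (Ideal.IsPrime.ne_top ‹p.IsPrime›)
  refine ⟨s, t, hs, ht, ?_⟩
  by_contra hlt
  let B := A ⧸ (I ⊔ p)
  let π : A →+* B := Ideal.Quotient.mk _
  haveI : Nontrivial B := Ideal.Quotient.nontrivial_iff.2 hne
  haveI : IsLocalRing B := IsLocalRing.of_surjective' π Ideal.Quotient.mk_surjective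
  obtain ⟨f, -, hrad⟩ := S17753.result B s hs (IsLocalRing.maximalIdeal B) (IsLocalRing.maximalIdeal.isMaximal B).ne_top
  have hm : Ideal.comap π (IsLocalRing.maximalIdeal B) = IsLocalRing.maximalIdeal A := by
    haveI := Ideal.comap_isMaximal_of_surjective π Ideal.Quotient.mk_surjective (K := IsLocalRing.maximalIdeal B)
    exact IsLocalRing.eq_maximalIdeal inferInstance
  choose g hg using fun i => Ideal.Quotient.mk_surjective (I := I ⊔ p) (f i)
  let F : Finset A := Finset.univ.image g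
  have hmap : (Ideal.span (F : Set A)).map π = Ideal.span (Set.range f) := by
    rw [Ideal.map_span, Finset.coe_image, Finset.coe_univ, Set.image_univ, ← Set.range_comp]
    exact congrArg (fun h => Ideal.span (Set.range h)) (funext hg)
  let J := I ⊔ Ideal.span (F : Set A)
  have hradeq : (p ⊔ J).radical = IsLocalRing.maximalIdeal A := by
    have h1 : p ⊔ J = Ideal.comap π (Ideal.span (Set.range f)) := by
      rw [← hmap, Ideal.comap_map_of_surjective π Ideal.Quotient.mk_surjective, ← RingHom.ker_eq_comap_bot,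
        Ideal.mk_ker]
      simp only [J]
      rw [sup_comm (Ideal.span (F : Set A)) (I ⊔ p), sup_comm I p, sup_assoc]
    rw [h1, ← Ideal.comap_radical, ← hrad, (IsLocalRing.maximalIdeal.isMaximal B).isPrime.radical, hm]
  have hJne : J ≠ ⊤ := fun h => by
    rw [h, sup_top_eq, Ideal.radical_top] at hradeq
    exact (IsLocalRing.maximalIdeal.isMaximal A).ne_top hradeq.symm
  have hcd : LocCoh.CdLE A J (t - 1) :=
    LC15.cdLE_mono (show e + F.card ≤ t - 1 from by
      have hF : F.card ≤ s := Finset.card_image_le.trans (by simp)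
      omega) (LC15.cdLE_sup he (LC15.cdLE_span_finset F))
  exact S0328.result A J hJne p hradeq t ht (by omega) hcd

theorem dim_le_of_forall {J : Ideal A} {c : WithBot ℕ∞}
    (h : ∀ p : PrimeSpectrum A, J ≤ p.asIdeal → ringKrullDim (A ⧸ p.asIdeal) ≤ c) : ringKrullDim (A ⧸ J) ≤ c := by
  rw [ringKrullDim_quotient]
  refine iSup_le fun l => ?_
  let m : LTSeries (PrimeSpectrum A) := l.map (fun x => x.1) fun _ _ h => h
  have h1 := length_le_ringKrullDim m.head m le_rfl
  exact h1.trans (h m.head (by rw [LTSeries.head_map]; exact l.head.2))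

theorem lt_dimBetween {ω : Dual.D A} (hω : Dual.IsDualizing A ω) {p q : PrimeSpectrum A} (hpq : p ≤ q) {k : ℕ}
    {c : WithBot ℕ∞} (hq : ringKrullDim (A ⧸ q.asIdeal) ≤ c) (hp : c + (k : WithBot ℕ∞) < ringKrullDim (A ⧸ p.asIdeal)) :
    ((k : ℕ) : WithBot ℕ∞) < Formal2.dimBetween A p.asIdeal q.asIdeal := by
  by_contra hle
  rw [not_lt] at hle
  have h1 := DimBetween.mu_sub_le p q hω hpq (d := k) hle
  let M : PrimeSpectrum A := ⟨IsLocalRing.maximalIdeal A, inferInstance⟩
  have hM : ∀ r : PrimeSpectrum A, r ≤ M := fun r => IsLocalRing.le_maximalIdeal r.isPrime.ne_top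
  obtain ⟨l, hl, -, hlen⟩ := DualAnn.exists_chain hω (hM q)
  have h2 := length_le_ringKrullDim q l hl.ge
  obtain ⟨t, ht⟩ := exists_dim_eq p.isPrime.ne_top
  have h3 : (t : ℤ) ≤ DualAnn.mu hω M - DualAnn.mu hω p := by
    have e : (t : WithBot ℕ∞) = ((t : ℕ∞) : WithBot ℕ∞) := rfl
    have ht' := ht
    rw [ringKrullDim_quotient, e] at ht'
    haveI : Nonempty (PrimeSpectrum.zeroLocus (p.asIdeal : Set A)) := ⟨⟨p, le_refl p.asIdeal⟩⟩
    obtain ⟨l', hl'⟩ := Order.le_krullDim_iff.1 (le_of_eq ht'.symm)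
    have h4 := DualAnn.mu_chain hω (l'.map (fun x => x.1) fun _ _ h => h)
    rw [LTSeries.head_map, LTSeries.last_map] at h4
    have h5 := DualAnn.mu_mono hω (show p ≤ l'.head.1 from l'.head.2)
    have h6 := DualAnn.mu_mono hω (hM l'.last.1)
    simp only [LTSeries.map_length] at h4
    omega
  have h7 : t ≤ l.length + k := by omega
  rw [ht] at hp
  refine (not_lt.2 ?_) hp
  calc ((t : ℕ) : WithBot ℕ∞) ≤ ((l.length + k : ℕ) : WithBot ℕ∞) := Nat.cast_le.2 h7
    _ = ((l.length : ℕ∞) : WithBot ℕ∞) + (k : WithBot ℕ∞) := by rw [Nat.cast_add]; rfl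
    _ ≤ c + (k : WithBot ℕ∞) := add_le_add (h2.trans hq) le_rfl

end Groth.Agent.AlgSec27
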