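import Groth.Agent.AlgSec27.Dev

/-!
Connectedness from algebraization of formal sections.
-/

set_option autoImplicit false
set_option backward.isDefEq.respectTransparency.types false

universe u

open TopologicalSpace

noncomputable section

namespace Groth.Agent.AlgSec27

open Frac27

variable {A : Type u} [CommRing A] [IsNoetherianRing A] {I 𝔞 : Ideal A}

omit [IsNoetherianRing A] in
theorem frac_self {M : Type u} [AddCommGroup M] [Module A M] {p : PrimeSpectrum A} (m : M) (r : A)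
    (hr : r ∉ p.asIdeal) : frac (r • m) r hr = frac m 1 p.isPrime.one_notMem := by
  rw [frac, frac, LocalizedModule.mk_eq]
  exact ⟨1, by simp [Submonoid.smul_def]⟩

/-- The ring modulo its nilradical. -/
abbrev red (A : Type u) [CommRing A] : Type u := A ⧸ nilradical A

theorem mem_minimalPrimes_of_associatedPrime {p : Ideal A} (hp : p ∈ associatedPrimes A (red A)) :
    p ∈ minimalPrimes A := by
  obtain ⟨hpp, x, hx⟩ := (isAssociatedPrime_iff).1 hp
  obtain ⟨v, rfl⟩ := Ideal.Quotient.mk_surjective x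
  have hmem : ∀ a, a ∈ p ↔ a * v ∈ nilradical A := fun a => by
    rw [hx, Submodule.mem_colon_singleton, Submodule.mem_bot]
    exact (Submodule.Quotient.mk_eq_zero (nilradical A))
  have hv : v ∉ nilradical A := fun h => hpp.ne_top ((Ideal.eq_top_iff_one p).2 ((hmem 1).2 (by rwa [one_mul])))
  rw [nilradical, Ideal.zero_eq_bot, ← Ideal.sInf_minimalPrimes, Ideal.mem_sInf] at hv
  push Not at hv
  obtain ⟨q, hq, hvq⟩ := hv
  have hpq : p ≤ q := fun a ha => (hq.1.1.mem_or_mem (nilradical_le_prime q (H := hq.1.1) ((hmem a).1 ha))).resolve_right hvq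
  rwa [le_antisymm hpq (hq.2 ⟨hpp, bot_le⟩ hpq)]

/-- Surjectivity of algebraization makes the trace of the zero locus preconnected. -/
theorem preconnected_of_sSurj (U : Opens (PrimeSpectrum A)) (hS : SSurj I (red A) U)
    (hc : ∀ V : Set (PrimeSpectrum A), IsOpen V → V.Nonempty →
      PrimeSpectrum.zeroLocus (I : Set A) ∩ U ⊆ V → _root_.IsConnected V) :
    _root_.IsPreconnected (PrimeSpectrum.zeroLocus (I : Set A) ∩ (U : Set (PrimeSpectrum A))) := by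
  classical
  intro u v hu hv huv ⟨pu, hpu, hpu'⟩ ⟨pv, hpv, hpv'⟩
  by_contra hdisj
  have hdisj' : ∀ p, p ∈ PrimeSpectrum.zeroLocus (I : Set A) → p ∈ U → p ∈ u → p ∈ v → False :=
    fun p h1 h2 h3 h4 => hdisj ⟨p, ⟨h1, h2⟩, h3, h4⟩
  let e : red A := Ideal.Quotient.mk _ 1
  let Q : ℕ → Type u := fun n => Formal2.quotPow A I (red A) n
  let f : ∀ (n : ℕ) (p : U), Loc A (Formal2.quotPow A I (red A) n) p.1 := fun n p =>
    if p.1 ∈ u then frac (Formal2.quotPowπ A I (red A) n e) 1 p.1.isPrime.one_notMem else 0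
  have hc' : IsClosed (PrimeSpectrum.zeroLocus (I : Set A)) := PrimeSpectrum.isClosed_zeroLocus _
  have hout : ∀ (n : ℕ) (p : U), p.1 ∉ PrimeSpectrum.zeroLocus (I : Set A) →
      ∀ z : Loc A (Formal2.quotPow A I (red A) n) p.1, f n p = z := fun n p hp z =>
    (loc_quot_eq_zero hp n _).trans (loc_quot_eq_zero hp n z).symm
  have hu1 : ∀ (n : ℕ) (p : U), (p.1 ∈ u ∨ p.1 ∉ PrimeSpectrum.zeroLocus (I : Set A)) →
      f n p = frac (Formal2.quotPowπ A I (red A) n e) 1 p.1.isPrime.one_notMem := fun n p hp => by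
    by_cases h : p.1 ∈ u
    · exact if_pos h
    · exact hout n p (hp.resolve_left h) _
  have hv1 : ∀ (n : ℕ) (p : U), (p.1 ∈ v ∨ p.1 ∉ PrimeSpectrum.zeroLocus (I : Set A)) → f n p = 0 :=
    fun n p hp => by
      by_cases h : p.1 ∈ PrimeSpectrum.zeroLocus (I : Set A)
      · exact if_neg fun hpu'' => hdisj' p.1 h p.2 hpu'' (hp.resolve_right (not_not.2 h))
      · exact hout n p h _
  let O₁ : Opens (PrimeSpectrum A) := U ⊓ ⟨u ∪ (PrimeSpectrum.zeroLocus (I : Set A))ᶜ, hu.union hc'.isOpen_compl⟩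
  let O₀ : Opens (PrimeSpectrum A) := U ⊓ ⟨v ∪ (PrimeSpectrum.zeroLocus (I : Set A))ᶜ, hv.union hc'.isOpen_compl⟩
  let y : ∀ n, Sec A (Formal2.quotPow A I (red A) n) U := fun n => mkSec (f n) fun x => by
    by_cases hx : x.1 ∈ O₁
    · obtain ⟨_, ⟨r, rfl⟩, hxr, hsub⟩ :=
        PrimeSpectrum.isTopologicalBasis_basic_opens.exists_subset_of_mem_open hx O₁.isOpen
      exact ⟨r, r • Formal2.quotPowπ A I (red A) n e, hxr, fun p hr =>
        (hu1 n p (hsub hr).2).trans (frac_self _ r hr).symm⟩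
    · have hx0 : x.1 ∈ O₀ := ⟨x.2, by
        by_cases h : x.1 ∈ PrimeSpectrum.zeroLocus (I : Set A)
        · exact Or.inl ((huv ⟨h, x.2⟩).resolve_left fun h' => hx ⟨x.2, Or.inl h'⟩)
        · exact Or.inr h⟩
      obtain ⟨_, ⟨r, rfl⟩, hxr, hsub⟩ :=
        PrimeSpectrum.isTopologicalBasis_basic_opens.exists_subset_of_mem_open hx0 O₀.isOpen
      exact ⟨r, 0, hxr, fun p hr => (hv1 n p (hsub hr).2).trans (LocalizedModule.zero_mk _).symm⟩
  obtain ⟨V, hV, x, hx⟩ := hS y fun n => Sec.ext' fun p => by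
    rw [smap_apply, mkSec_apply, mkSec_apply]
    by_cases h : p.1 ∈ u
    · simp only [f, if_pos h]
      rw [lmap_frac, quotPowTrans_mk]
    · simp only [f, if_neg h, map_zero]
  obtain ⟨W₁, ⟨hW₁, hW₁V⟩, h₁⟩ := sInj_of_finite (I := I) (U := V ⊓ O₁) (red A) (V ⊓ O₁) admissible_self
    (sres inf_le_left x - toSec e (V ⊓ O₁)) fun n => by
      rw [map_sub, sub_eq_zero, smap_sres, ← hx, smap_toSec]
      exact Sec.ext' fun p => hu1 n ⟨p.1, hV.1 p.2.1⟩ p.2.2.2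
  obtain ⟨W₀, ⟨hW₀, hW₀V⟩, h₀⟩ := sInj_of_finite (I := I) (U := V ⊓ O₀) (red A) (V ⊓ O₀) admissible_self
    (sres inf_le_left x) fun n => by
      rw [smap_sres, ← hx]
      exact Sec.ext' fun p => hv1 n ⟨p.1, hV.1 p.2.1⟩ p.2.2.2
  have hsep : ∀ p : PrimeSpectrum A, p ∈ W₁ → p ∈ W₀ → False := fun p hp1 hp0 => by
    have e1 : x.1 ⟨p, (hW₁V hp1).1⟩ - frac e 1 p.isPrime.one_notMem = 0 := congrArg (fun σ => σ.1 ⟨p, hp1⟩) h₁
    have e0 : x.1 ⟨p, (hW₀V hp0).1⟩ = 0 := congrArg (fun σ => σ.1 ⟨p, hp0⟩) h₀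
    have e2 : frac e 1 p.isPrime.one_notMem = 0 := by rw [sub_eq_zero] at e1; rw [← e1]; exact e0
    obtain ⟨c, hc, hce⟩ := (frac_eq_zero_iff _ _ _).1 e2
    have hcn : c * 1 ∈ nilradical A := (Submodule.Quotient.mk_eq_zero _).1 hce
    rw [mul_one] at hcn
    exact hc (nilradical_le_prime p.asIdeal hcn)
  have hsub : PrimeSpectrum.zeroLocus (I : Set A) ∩ U ⊆ (W₁ ⊔ W₀ : Opens (PrimeSpectrum A)) := fun p hp => by
    have hpV : p ∈ V := hV.2 p hp.2 hp.1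
    rcases huv hp with h | h
    · exact Or.inl (hW₁.2 p ⟨hpV, hp.2, Or.inl h⟩ hp.1)
    · exact Or.inr (hW₀.2 p ⟨hpV, hp.2, Or.inl h⟩ hp.1)
  have hconn := (hc _ (W₁ ⊔ W₀).isOpen ⟨pu, hsub hpu⟩ hsub).isPreconnected
  have hpu1 : pu ∈ W₁ := hW₁.2 pu ⟨hV.2 pu hpu.2 hpu.1, hpu.2, Or.inl hpu'⟩ hpu.1
  have hpv0 : pv ∈ W₀ := hW₀.2 pv ⟨hV.2 pv hpv.2 hpv.1, hpv.2, Or.inl hpv'⟩ hpv.1
  obtain ⟨p, -, hp1, hp0⟩ := hconn (W₁ : Set (PrimeSpectrum A)) W₀ W₁.isOpen W₀.isOpen (fun _ h => h)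
    ⟨pu, hsub hpu, hpu1⟩ ⟨pv, hsub hpv, hpv0⟩
  exact hsep p hp1 hp0

end Groth.Agent.AlgSec27
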