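import Groth.Agent.AlgSec27.Killers
import Mathlib.Algebra.Category.ModuleCat.Projective
import Mathlib.Algebra.Category.ModuleCat.Biproducts
import Mathlib.Algebra.Category.ModuleCat.EpiMono
import Mathlib.RingTheory.Finiteness.Prod

/-!
A criterion for Koszul cocycles to die after transition.
-/

set_option autoImplicit false
set_option backward.isDefEq.respectTransparency.types false

universe u

open CategoryTheory CategoryTheory.Limits

noncomputable section

namespace Groth.Agent.AlgSec27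

open KosPro27

variable {A : Type u} [CommRing A]

/-- The Koszul tower of free modules. -/
abbrev kosA (l : List A) : Cx (ModuleCat.{u} A) := kos (ModuleCat.of A A) l

theorem finite_kosA : ∀ (l : List A) (t n : ℕ), Module.Finite A ((kosA l).X t n)
  | [], 0, _ => inferInstanceAs (Module.Finite A A)
  | [], t + 1, n => by
    haveI : Subsingleton ((kosA ([] : List A)).X (t + 1) n) :=
      ModuleCat.subsingleton_of_isZero (isZero_zero (ModuleCat.{u} A))
    exact Module.Finite.of_surjective (0 : A →ₗ[A] _) fun _ => ⟨0, Subsingleton.elim _ _⟩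
  | _ :: l, 0, n => finite_kosA l 0 n
  | _ :: l, t + 1, n => by
    haveI := finite_kosA l (t + 1) n
    haveI := finite_kosA l t n
    haveI : Module.Finite A (ModuleCat.of A ((kosA l).X (t + 1) n × (kosA l).X t n)) :=
      inferInstanceAs (Module.Finite A ((kosA l).X (t + 1) n × (kosA l).X t n))
    exact Module.Finite.equiv
      (ModuleCat.biprodIsoProd ((kosA l).X (t + 1) n) ((kosA l).X t n)).symm.toLinearEquiv

theorem projective_kosA : ∀ (l : List A) (t n : ℕ), Projective ((kosA l).X t n)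
  | [], 0, _ => (IsProjective.iff_projective A).1 inferInstance
  | [], _ + 1, _ => Projective.of_iso (isZero_zero _).isoZero.symm Projective.zero_projective
  | _ :: l, 0, n => projective_kosA l 0 n
  | _ :: l, t + 1, n => by
    haveI := projective_kosA l (t + 1) n
    haveI := projective_kosA l t n
    show Projective ((kosA l).X (t + 1) n ⊞ (kosA l).X t n)
    infer_instance

theorem exists_pow_smul_hom_eq_zero {X N : ModuleCat.{u} A} [Module.Finite A X] (f : X ⟶ N) (a : A)
    (h : ∀ x : N, ∃ e : ℕ, a ^ e • x = 0) : ∃ e : ℕ, a ^ e • f = 0 := by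
  obtain ⟨s, hs⟩ := Module.Finite.fg_top (R := A) (M := X)
  choose e he using fun x : X => h (f x)
  refine ⟨∑ x ∈ s, e x, ModuleCat.hom_ext (LinearMap.ext_on hs fun x hx => ?_)⟩
  show a ^ (∑ x ∈ s, e x) • f x = 0
  obtain ⟨r, hr⟩ := Nat.exists_eq_add_of_le (Finset.single_le_sum (fun y _ => Nat.zero_le (e y)) hx)
  rw [hr, add_comm, pow_add, mul_smul, he, smul_zero]

/-- Cocycles of degree `t + 1` die after transition and multiplication by a power of `s`. -/
def Dies (l : List A) (s : A) (t : ℕ) (N : ModuleCat.{u} A) : Prop :=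
  ∀ (n : ℕ) (u : (kosA l).X (t + 1) n ⟶ N), (kosA l).d (t + 1) n ≫ u = 0 →
    ∃ (m : ℕ) (h : n ≤ m) (e : ℕ) (v : (kosA l).X t m ⟶ N),
      s ^ e • ((kosA l).φ (t + 1) h ≫ u) = (kosA l).d t m ≫ v

variable {l : List A} {s : A}

theorem dies_of_torsion (t : ℕ) {N : ModuleCat.{u} A} (h : ∀ g ∈ l, ∀ x : N, ∃ e : ℕ, (s * g) ^ e • x = 0) :
    Dies l s t N := by
  intro n u _
  classical
  haveI := finite_kosA l (t + 1) n
  have h' : ∀ g : A, ∃ e : ℕ, g ∈ l → (s * g) ^ e • u = 0 := fun g => by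
    by_cases hg : g ∈ l
    · obtain ⟨e, he⟩ := exists_pow_smul_hom_eq_zero u (s * g) (h g hg)
      exact ⟨e, fun _ => he⟩
    · exact ⟨0, fun h => absurd h hg⟩
  choose e he using h'
  let E := ∑ g ∈ l.toFinset, e g
  refine ⟨n + E, Nat.le_add_right n E, E, 0, ?_⟩
  rw [comp_zero, ← Linear.comp_smul]
  refine φ_comp_eq_zero (ModuleCat.of A A) l t _ _ fun g hg => ?_
  obtain ⟨r, hr⟩ := Nat.exists_eq_add_of_le
    (Finset.single_le_sum (fun y _ => Nat.zero_le (e y)) (List.mem_toFinset.2 hg) : e g ≤ E)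
  rw [Nat.add_sub_cancel_left, smul_smul, ← mul_pow, mul_comm g s, show E = r + e g from hr.trans (add_comm _ _),
    pow_add, mul_smul, he g hg, smul_zero]

theorem exists_codRestrict {X : ModuleCat.{u} A} {N : Type u} [AddCommGroup N] [Module A N] (Γ : Submodule A N)
    (f : X ⟶ ModuleCat.of A N) (h : f ≫ ModuleCat.ofHom Γ.mkQ = 0) :
    ∃ f' : X ⟶ ModuleCat.of A Γ, f' ≫ ModuleCat.ofHom Γ.subtype = f := by
  refine ⟨ModuleCat.ofHom (f.hom.codRestrict Γ fun x => ?_), rfl⟩
  have := congrArg (fun k => k x) h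
  exact (Submodule.Quotient.mk_eq_zero Γ).1 this

theorem dies_of_submodule (t : ℕ) {N : Type u} [AddCommGroup N] [Module A N] (Γ : Submodule A N)
    (h₁ : Dies l s t (ModuleCat.of A Γ)) (h₂ : Dies l s t (ModuleCat.of A (N ⧸ Γ))) :
    Dies l s t (ModuleCat.of A N) := by
  intro n u hu
  let K := kosA l
  let π : ModuleCat.of A N ⟶ ModuleCat.of A (N ⧸ Γ) := ModuleCat.ofHom Γ.mkQ
  haveI : Epi π := (ModuleCat.epi_iff_surjective π).2 Γ.mkQ_surjective
  haveI : Mono (ModuleCat.ofHom Γ.subtype) := (ModuleCat.mono_iff_injective _).2 Subtype.val_injective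
  obtain ⟨m, hm, e, v, hv⟩ := h₂ n (u ≫ π) (by rw [← Category.assoc, hu, zero_comp])
  haveI := projective_kosA l t m
  let v' : K.X t m ⟶ ModuleCat.of A N := Projective.factorThru v π
  let u' := s ^ e • (K.φ (t + 1) hm ≫ u) - K.d t m ≫ v'
  have hu' : u' ≫ π = 0 := by
    rw [Preadditive.sub_comp, Linear.smul_comp, Category.assoc, Category.assoc,
      show v' ≫ π = v from Projective.factorThru_comp v π, hv, sub_self]
  obtain ⟨u'', hu''⟩ := exists_codRestrict Γ u' hu'
  obtain ⟨m', hm', e', w, hw⟩ := h₁ m u'' (by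
    rw [← cancel_mono (ModuleCat.ofHom Γ.subtype), Category.assoc, hu'', zero_comp, Preadditive.comp_sub,
      Linear.comp_smul, ← Category.assoc, K.d_comm, Category.assoc, hu, comp_zero, smul_zero, ← Category.assoc,
      K.dd, zero_comp, sub_zero])
  refine ⟨m', hm.trans hm', e' + e, s ^ e' • (K.φ t hm' ≫ v') + w ≫ ModuleCat.ofHom Γ.subtype, ?_⟩
  have h := congrArg (fun k => k ≫ ModuleCat.ofHom Γ.subtype) hw
  simp only [Linear.smul_comp, Category.assoc, hu''] at h
  rw [Preadditive.comp_add, Linear.comp_smul, ← Category.assoc (K.d t m'), K.d_comm t hm', Category.assoc,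
    ← h, pow_add, mul_smul, Preadditive.comp_sub, Linear.comp_smul, reassoc_of% ((kosA l).φ_comp (t + 1) hm hm'), smul_sub, add_sub_cancel]

/-- The elements killed by powers of `g`. -/
def powTors (g : A) (N : Type u) [AddCommGroup N] [Module A N] : Submodule A N where
  carrier := {x | ∃ c : ℕ, g ^ c • x = 0}
  zero_mem' := ⟨0, smul_zero _⟩
  add_mem' := by
    rintro x y ⟨a, ha⟩ ⟨b, hb⟩
    exact ⟨a + b, by
      rw [smul_add]
      nth_rewrite 1 [add_comm a b]
      rw [pow_add, pow_add, mul_smul, mul_smul, ha, hb, smul_zero, smul_zero, add_zero]⟩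
  smul_mem' r x := by
    rintro ⟨a, ha⟩
    exact ⟨a, by rw [smul_comm, ha, smul_zero]⟩

theorem pow_smul_eq_zero {g : A} {N : Type u} [AddCommGroup N] [Module A N] (hN : ∀ x : N, g • x = 0 → x = 0) :
    ∀ (k : ℕ) (x : N), g ^ k • x = 0 → x = 0
  | 0, x, h => by rwa [pow_zero, one_smul] at h
  | k + 1, x, h => hN x (pow_smul_eq_zero hN k _ (by rwa [← mul_smul, ← pow_succ]))

theorem dies_of_injective (t : ℕ) {g : A} (hg : ∀ n, g ∈ (powI l n).radical) {N : Type u} [AddCommGroup N]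
    [Module A N] (hN : ∀ x : N, g • x = 0 → x = 0)
    (h : ∀ k : ℕ, Dies l s t (ModuleCat.of A (N ⧸ LinearMap.range (g ^ k • (LinearMap.id : N →ₗ[A] N))))) :
    Dies l s (t + 1) (ModuleCat.of A N) := by
  intro n u hu
  let K := kosA l
  obtain ⟨k, hk⟩ : g ∈ (kill (A := A) K n).radical := by
    have := Ideal.radical_mono (powI_le_radical_kill (ModuleCat.of A A) l n) (hg n)
    rwa [Ideal.radical_idem] at this
  obtain ⟨v, hv⟩ := hk.2 (t + 1) (ModuleCat.of A N) u hu
  let R := LinearMap.range (g ^ k • (LinearMap.id : N →ₗ[A] N))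
  let π : ModuleCat.of A N ⟶ ModuleCat.of A (N ⧸ R) := ModuleCat.ofHom R.mkQ
  let μ : ModuleCat.of A N ⟶ ModuleCat.of A R :=
    ModuleCat.ofHom (g ^ k • (LinearMap.id : N →ₗ[A] N)).rangeRestrict
  haveI : Epi π := (ModuleCat.epi_iff_surjective π).2 R.mkQ_surjective
  haveI : Epi μ := (ModuleCat.epi_iff_surjective μ).2 (LinearMap.surjective_rangeRestrict _)
  have hμ : μ ≫ ModuleCat.ofHom R.subtype = g ^ k • 𝟙 (ModuleCat.of A N) := rfl
  have hinj : ∀ {X : ModuleCat.{u} A} (f f' : X ⟶ ModuleCat.of A N), g ^ k • f = g ^ k • f' → f = f' :=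
    fun f f' hff => by
      refine ModuleCat.hom_ext (LinearMap.ext fun x => ?_)
      rw [← sub_eq_zero]
      refine pow_smul_eq_zero hN k _ ?_
      rw [smul_sub, sub_eq_zero]
      exact congrArg (fun q => q.hom x) hff
  obtain ⟨m, hm, e, k', hk'⟩ := h k n (v ≫ π) (by
    rw [← Category.assoc, hv, Linear.smul_comp]
    refine ModuleCat.hom_ext (LinearMap.ext fun x => ?_)
    exact (Submodule.Quotient.mk_eq_zero R).2 ⟨u x, rfl⟩)
  haveI := projective_kosA l t m
  haveI := projective_kosA l (t + 1) m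
  let k₀ : K.X t m ⟶ ModuleCat.of A N := Projective.factorThru k' π
  let w₀ := s ^ e • (K.φ (t + 1) hm ≫ v) - K.d t m ≫ k₀
  obtain ⟨w₁, hw₁⟩ := exists_codRestrict R w₀ (by
    show w₀ ≫ π = 0
    rw [Preadditive.sub_comp, Linear.smul_comp, Category.assoc, Category.assoc,
      show k₀ ≫ π = k' from Projective.factorThru_comp k' π, hk', sub_self])
  let w : K.X (t + 1) m ⟶ ModuleCat.of A N := Projective.factorThru w₁ μ
  have hw : g ^ k • w = w₀ := by
    rw [← hw₁, ← show w ≫ μ = w₁ from Projective.factorThru_comp w₁ μ, Category.assoc, hμ, Linear.comp_smul,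
      Category.comp_id]
  refine ⟨m, hm, e, w, hinj _ _ ?_⟩
  conv_rhs => rw [← Linear.comp_smul, hw]
  rw [Preadditive.comp_sub, Linear.comp_smul, ← Category.assoc (K.d (t + 1) m) (K.φ (t + 1) hm),
    K.d_comm, Category.assoc, hv, ← Category.assoc (K.d (t + 1) m) (K.d t m), K.dd, zero_comp, sub_zero,
    Linear.comp_smul, smul_comm]

/-- The criterion. -/
theorem dies (hl : ∀ n, Ideal.span {g | g ∈ l} ≤ (powI l n).radical) :
    ∀ (gs : List A) (J₀ : Ideal A) (t : ℕ), gs.length ≤ t → (∀ g ∈ gs, g ∈ Ideal.span {g | g ∈ l}) →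
      (∀ g ∈ l, s * g ∈ (J₀ ⊔ Ideal.span {g | g ∈ gs}).radical) →
      ∀ (N : Type u) [AddCommGroup N] [Module A N], (∀ x : N, ∃ c : ℕ, ∀ a ∈ J₀ ^ c, a • x = 0) →
        Dies l s t (ModuleCat.of A N)
  | [], J₀, t, _, _, hs, N, _, _, hN => by
    refine dies_of_torsion t fun g hg x => ?_
    obtain ⟨j, hj⟩ := hs g hg
    obtain ⟨c, hc⟩ := hN x
    refine ⟨j * c, ?_⟩
    rw [pow_mul]
    refine hc _ (Ideal.pow_mem_pow ?_ c)
    simpa using hj
  | g :: gs, J₀, t, hlen, hgs, hs, N, _, _, hN => by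
    obtain ⟨t, rfl⟩ := Nat.exists_eq_succ_of_ne_zero (by simp at hlen; omega : t ≠ 0)
    let J₁ := J₀ ⊔ Ideal.span {g}
    have hs' : ∀ b ∈ l, s * b ∈ (J₁ ⊔ Ideal.span {a | a ∈ gs}).radical := fun b hb => by
      refine Ideal.radical_mono ?_ (hs b hb)
      refine sup_le (le_sup_left.trans le_sup_left) (Ideal.span_le.2 fun a ha => ?_)
      rcases List.mem_cons.1 ha with rfl | ha
      · exact Ideal.mem_sup_left (Ideal.mem_sup_right (Ideal.mem_span_singleton_self _))
      · exact Ideal.mem_sup_right (Ideal.subset_span ha)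
    have hgs' : ∀ a ∈ gs, a ∈ Ideal.span {b | b ∈ l} := fun a ha => hgs a (List.mem_cons_of_mem g ha)
    have hkill : ∀ (H : Type u) [AddCommGroup H] [Module A H], (∀ x : H, ∃ c : ℕ, ∀ a ∈ J₀ ^ c, a • x = 0) →
        (∀ x : H, ∃ c : ℕ, g ^ c • x = 0) → ∀ x : H, ∃ c : ℕ, ∀ a ∈ J₁ ^ c, a • x = 0 := by
      intro H _ _ h1 h2 x
      obtain ⟨c₁, hc₁⟩ := h1 x
      obtain ⟨c₂, hc₂⟩ := h2 x
      refine ⟨c₁ + c₂, fun a ha => ?_⟩
      have h3 := Ideal.sup_pow_add_le_pow_sup_pow (I := J₀) (J := Ideal.span {g}) (n := c₁) (m := c₂) ha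
      rw [Ideal.span_singleton_pow] at h3
      obtain ⟨p, hp, q, hq, rfl⟩ := Submodule.mem_sup.1 h3
      obtain ⟨r, rfl⟩ := Ideal.mem_span_singleton'.1 hq
      rw [add_smul, hc₁ p hp, mul_smul, hc₂, smul_zero, add_zero]
    let Γ := powTors g N
    refine dies_of_submodule (t + 1) Γ ?_ ?_
    · refine dies hl gs J₁ (t + 1) (by simp at hlen ⊢; omega) hgs' hs' Γ (hkill Γ (fun x => ?_) fun x => ?_)
      · obtain ⟨c, hc⟩ := hN x
        exact ⟨c, fun a ha => Subtype.ext (hc a ha)⟩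
      · obtain ⟨c, hc⟩ := x.2
        exact ⟨c, Subtype.ext hc⟩
    · refine dies_of_injective t (fun n => hl n (hgs g List.mem_cons_self)) (fun x hx => ?_) fun k => ?_
      · obtain ⟨x, rfl⟩ := Γ.mkQ_surjective x
        rw [← map_smul, Submodule.mkQ_apply, Submodule.Quotient.mk_eq_zero] at hx
        obtain ⟨c, hc⟩ := hx
        exact (Submodule.Quotient.mk_eq_zero Γ).2 ⟨c + 1, by rw [pow_succ, mul_smul]; exact hc⟩
      · refine dies hl gs J₁ t (by simp at hlen ⊢; omega) hgs' hs' _ (hkill _ (fun x => ?_) fun x => ?_)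
        · obtain ⟨x, rfl⟩ := Submodule.mkQ_surjective _ x
          obtain ⟨x, rfl⟩ := Γ.mkQ_surjective x
          obtain ⟨c, hc⟩ := hN x
          exact ⟨c, fun a ha => by rw [← map_smul, ← map_smul, hc a ha, map_zero, map_zero]⟩
        · obtain ⟨x, rfl⟩ := Submodule.mkQ_surjective _ x
          refine ⟨k, ?_⟩
          rw [← map_smul]
          exact (Submodule.Quotient.mk_eq_zero _).2 ⟨x, rfl⟩

end Groth.Agent.AlgSec27
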