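import Groth.Agent.Frac27.ColimBij
import Groth.Agent.LC15.Gamma
import Groth.Agent.AdicC27.Approx
import Groth.Prelude.Def_Wider
import Mathlib.RingTheory.Filtration

/-!
Compatible sections over a punctured spectrum from pro-vanishing of local cohomology.
-/

set_option autoImplicit false
set_option backward.isDefEq.respectTransparency.types false

universe u

open CategoryTheory CategoryTheory.Limits TopologicalSpace

noncomputable section

namespace Groth.Agent.AlgSec27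

open Frac27 LC15

variable {A : Type u} [CommRing A] {I 𝔞 : Ideal A} {Q : Type u} [AddCommGroup Q] [Module A Q]

theorem smap_toSec {N : Type u} [AddCommGroup N] [Module A N] (φ : Q →ₗ[A] N) (x : Q)
    (V : Opens (PrimeSpectrum A)) : smap φ V (toSec x V) = toSec (φ x) V :=
  Sec.ext' fun _ => lmap_frac φ x 1 _

/-- `toSec` as a linear map. -/
def toSecL (Q : Type u) [AddCommGroup Q] [Module A Q] (V : Opens (PrimeSpectrum A)) : Q →ₗ[A] Sec A Q V where
  toFun x := toSec x V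
  map_add' x y := Sec.ext' fun p => by
    show frac (x + y) 1 _ = frac x 1 _ + frac y 1 _
    rw [frac, frac, frac, LocalizedModule.mk_add_mk, LocalizedModule.mk_eq]
    exact ⟨1, by simp [Submonoid.smul_def]⟩
  map_smul' a x := Sec.ext' fun p => (smul_frac a x 1 _).symm

theorem smul_sres_eq {V : Opens (PrimeSpectrum A)} {s t : Sec A Q V}
    (h : ∀ y : V, ∃ a : A, a ∉ y.1.asIdeal ∧ a • s = a • t) : s = t :=
  Sec.ext' fun y => by
    obtain ⟨a, ha, he⟩ := h y
    exact smul_cancel ha (congrArg (fun σ => σ.1 y) he)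

variable [IsNoetherianRing A]

theorem mem_gamma_of_toSec_eq_zero {x : Q} (h : toSec x (LocCoh.puncturedOpen A 𝔞) = 0) :
    x ∈ gamma 𝔞 Q := by
  let J : Ideal A := LinearMap.ker (LinearMap.toSpanSingleton A Q x)
  have hJ : 𝔞 ≤ J.radical := by
    rw [Ideal.radical_eq_sInf]
    refine le_sInf fun p hp => ?_
    by_contra hap
    let y : (LocCoh.puncturedOpen A 𝔞 : Opens (PrimeSpectrum A)) := ⟨⟨p, hp.2⟩, hap⟩
    obtain ⟨c, hc, hcx⟩ := (frac_eq_zero_iff _ _ _).1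
      (show frac x 1 y.1.isPrime.one_notMem = 0 from congrArg (fun σ => σ.1 y) h)
    exact hc (hp.1 hcx)
  obtain ⟨k, hk⟩ := Ideal.exists_pow_le_of_le_radical_of_fg hJ (IsNoetherian.noetherian _)
  exact ⟨k, fun a ha => hk ha⟩

theorem exists_hom_pow [Module.Finite A Q] (σ : Sec A Q (LocCoh.puncturedOpen A 𝔞)) :
    ∃ (K : ℕ) (h : (𝔞 ^ K : Ideal A) →ₗ[A] Q),
      ∀ a : (𝔞 ^ K : Ideal A), toSec (h a) (LocCoh.puncturedOpen A 𝔞) = (a : A) • σ := by
  let U : Opens (PrimeSpectrum A) := LocCoh.puncturedOpen A 𝔞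
  let Ψ : A × Q →ₗ[A] Sec A Q U :=
    (LinearMap.toSpanSingleton A (Sec A Q U) σ).comp (LinearMap.fst A A Q) -
      (toSecL Q U).comp (LinearMap.snd A A Q)
  let P : Submodule A (A × Q) := LinearMap.ker Ψ
  have hP : ∀ z, z ∈ P ↔ z.1 • σ = toSec z.2 U := fun z => by
    show z.1 • σ - toSec z.2 U = 0 ↔ _
    exact sub_eq_zero
  let 𝔡 : Ideal A := P.map (LinearMap.fst A A Q)
  have h𝔡 : 𝔞 ≤ 𝔡.radical := by
    rw [Ideal.radical_eq_sInf]
    refine le_sInf fun p hp => ?_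
    by_contra hap
    obtain ⟨r, m, hr, hrep⟩ := exists_rep σ (⟨⟨p, hp.2⟩, hap⟩ : U)
    obtain ⟨j, hj⟩ := exists_pow_smul_eq_zero r (r • σ - toSec m U) fun q hq => by
      obtain ⟨_, he⟩ := hrep q.1 hq
      change r • σ.1 q - frac m 1 q.1.isPrime.one_notMem = 0
      rw [show σ.1 q = _ from he, smul_frac, sub_eq_zero, frac, frac, LocalizedModule.mk_eq]
      exact ⟨1, by simp [Submonoid.smul_def]⟩
    have hmem : r ^ (j + 1) ∈ 𝔡 := ⟨(r ^ (j + 1), r ^ j • m), (hP _).2 (by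
      have h0 : r ^ j • (r • σ - toSec m U) = 0 := Sec.ext' hj
      rw [smul_sub, sub_eq_zero, smul_smul, ← pow_succ] at h0
      exact h0.trans ((toSecL Q U).map_smul (r ^ j) m).symm), rfl⟩
    exact hr (hp.2.mem_of_pow_mem _ (hp.1 hmem))
  obtain ⟨k, hk⟩ := Ideal.exists_pow_le_of_le_radical_of_fg h𝔡 (IsNoetherian.noetherian _)
  let Z : Submodule A (A × Q) := P ⊓ LinearMap.ker (LinearMap.fst A A Q)
  obtain ⟨e, he⟩ : ∃ e, 𝔞 ^ e ≤ Z.annihilator := by
    refine Ideal.exists_pow_le_of_le_radical_of_fg ?_ (IsNoetherian.noetherian _)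
    obtain ⟨s, hs⟩ := (IsNoetherian.noetherian Z : Z.FG)
    intro a ha
    choose! c hc using fun z (hz : z ∈ (s : Set (A × Q))) => show ∃ c : ℕ, a ^ c • z = 0 by
      have hzZ : z ∈ Z := hs ▸ Submodule.subset_span hz
      have h0 : toSec z.2 U = 0 := by
        rw [← (hP z).1 hzZ.1, show z.1 = 0 from hzZ.2, zero_smul]
      obtain ⟨c, hc⟩ := mem_gamma_of_toSec_eq_zero h0
      refine ⟨c, Prod.ext ?_ (hc _ (Ideal.pow_mem_pow ha c))⟩
      show a ^ c • z.1 = 0
      rw [show z.1 = 0 from hzZ.2, smul_zero]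
    refine ⟨s.sup c, ?_⟩
    rw [← hs, Submodule.mem_annihilator_span]
    intro z
    obtain ⟨r, hr⟩ := Nat.exists_eq_add_of_le (Finset.le_sup (f := c) z.2)
    rw [hr, add_comm, pow_add, mul_smul, hc z.1 z.2, smul_zero]
  obtain ⟨c, hc⟩ := Ideal.exists_pow_inf_eq_pow_smul (M := A × Q) 𝔞 Z
  let j := c + e + 1
  let P' : Submodule A (A × Q) := 𝔞 ^ j • P
  let π : P' →ₗ[A] A := (LinearMap.fst A A Q).comp P'.subtype
  have hinj : Function.Injective π := by
    rw [injective_iff_map_eq_zero]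
    rintro ⟨z, hz⟩ (h0 : z.1 = 0)
    have h1 : z ∈ 𝔞 ^ j • (⊤ : Submodule A (A × Q)) ⊓ Z :=
      ⟨Submodule.smul_mono le_rfl le_top hz, Submodule.smul_le_right hz, h0⟩
    rw [hc j (by omega)] at h1
    refine Subtype.ext ?_
    show z = 0
    refine Submodule.smul_induction_on h1 (fun a ha w hw => ?_) fun x y hx hy => by rw [hx, hy, add_zero]
    exact Submodule.mem_annihilator.1 (he (Ideal.pow_le_pow_right (by omega) ha)) w hw.2
  have hrange : (𝔞 ^ (j + k) : Ideal A) ≤ LinearMap.range π := by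
    have h1 : (𝔞 ^ (j + k) : Ideal A) ≤ P'.map (LinearMap.fst A A Q) := by
      rw [Submodule.map_smul'', pow_add, ← smul_eq_mul]
      exact Submodule.smul_mono le_rfl hk
    rintro a ha
    obtain ⟨z, hz, rfl⟩ := h1 ha
    exact ⟨⟨z, hz⟩, rfl⟩
  let g : (𝔞 ^ (j + k) : Ideal A) →ₗ[A] P' :=
    (LinearEquiv.ofInjective π hinj).symm.toLinearMap.comp (Submodule.inclusion hrange)
  refine ⟨j + k, (LinearMap.snd A A Q).comp (P'.subtype.comp g), fun a => ?_⟩
  have hg : ((g a : A × Q)).1 = (a : A) :=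
    congrArg Subtype.val ((LinearEquiv.ofInjective π hinj).apply_symm_apply (Submodule.inclusion hrange a))
  rw [← hg]
  exact ((hP _).1 (Submodule.smul_le_right (g a).2)).symm

/-- The sequence of a power of the ideal. -/
abbrev powSC (J : Ideal A) (K : ℕ) : ShortComplex (ModuleCat.{u} A) :=
  ShortComplex.mk (ModuleCat.ofHom (Submodule.subtype (J ^ K)) :
      ModuleCat.of A (J ^ K : Ideal A) ⟶ ModuleCat.of A A)
    (ModuleCat.ofHom (Submodule.mkQ (J ^ K)) : ModuleCat.of A A ⟶ LC15.quotPow J K)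
    (ModuleCat.hom_ext (LinearMap.exact_subtype_mkQ _).linearMap_comp_eq_zero)

omit [IsNoetherianRing A] in
theorem powSC_shortExact (J : Ideal A) (K : ℕ) : (powSC J K).ShortExact :=
  { exact := (ShortComplex.ShortExact.moduleCat_exact_iff_function_exact _).2 (LinearMap.exact_subtype_mkQ _)
    mono_f := (ModuleCat.mono_iff_injective _).2 Subtype.val_injective
    epi_g := (ModuleCat.epi_iff_surjective _).2 (Submodule.mkQ_surjective _) }

theorem exists_class [Module.Finite A Q] (σ : Sec A Q (LocCoh.puncturedOpen A 𝔞)) :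
    ∃ z : LocCoh.H 𝔞 1 Q, ∀ (N : Type u) [AddCommGroup N] [Module A N] (f : Q →ₗ[A] N),
      Hmap 𝔞 1 f z = 0 → ∃ x : N, toSec x (LocCoh.puncturedOpen A 𝔞) = smap f _ σ := by
  obtain ⟨K, h, hh⟩ := exists_hom_pow σ
  let hh' : ModuleCat.of A (𝔞 ^ K : Ideal A) ⟶ ModuleCat.of A Q := ModuleCat.ofHom h
  let e : Abelian.Ext (LC15.quotPow 𝔞 K) (ModuleCat.of A Q) 1 :=
    (powSC_shortExact 𝔞 K).extClass.comp (Abelian.Ext.mk₀ hh') (add_zero 1)
  refine ⟨toH 𝔞 1 Q K e, fun N _ _ f h0 => ?_⟩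
  rw [Hmap_toH, toH_eq_zero_iff] at h0
  obtain ⟨K', hKK', h0⟩ := h0
  let ψ : powSC 𝔞 K' ⟶ powSC 𝔞 K :=
    { τ₁ := ModuleCat.ofHom (Submodule.inclusion (Ideal.pow_le_pow_right hKK'))
      τ₂ := 𝟙 _
      τ₃ := LC15.qmap 𝔞 hKK'
      comm₁₂ := rfl
      comm₂₃ := rfl }
  let g₁ : ModuleCat.of A (𝔞 ^ K' : Ideal A) ⟶ ModuleCat.of A N := ψ.τ₁ ≫ hh' ≫ ModuleCat.ofHom f
  have h1 : (powSC_shortExact 𝔞 K').extClass.comp (Abelian.Ext.mk₀ g₁) (add_zero 1) = 0 := by
    rw [← Abelian.Ext.mk₀_comp_mk₀ ψ.τ₁ (hh' ≫ ModuleCat.ofHom f),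
      ← Abelian.Ext.comp_assoc_of_third_deg_zero,
      ShortComplex.ShortExact.extClass_naturality (powSC_shortExact 𝔞 K') (powSC_shortExact 𝔞 K) ψ,
      Abelian.Ext.comp_assoc_of_third_deg_zero, ← Abelian.Ext.mk₀_comp_mk₀ hh' (ModuleCat.ofHom f),
      ← Abelian.Ext.comp_assoc_of_third_deg_zero (powSC_shortExact 𝔞 K).extClass]
    exact h0
  obtain ⟨x₂, hx₂⟩ := Abelian.Ext.contravariant_sequence_exact₁ (powSC_shortExact 𝔞 K') (ModuleCat.of A N)
    (Abelian.Ext.mk₀ g₁) (add_zero 1) h1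
  obtain ⟨g, rfl⟩ := (Abelian.Ext.mk₀_bijective _ _).2 x₂
  rw [Abelian.Ext.mk₀_comp_mk₀] at hx₂
  have hg := (Abelian.Ext.mk₀_bijective _ _).1 hx₂
  refine ⟨g (1 : A), smul_sres_eq fun y => ?_⟩
  obtain ⟨a, ha, hay⟩ := SetLike.not_le_iff_exists.1 fun hle : (𝔞 ^ K' : Ideal A) ≤ y.1.asIdeal =>
    y.2 ((y.1.isPrime.le_of_pow_le hle : 𝔞 ≤ y.1.asIdeal))
  refine ⟨a, hay, ?_⟩
  have h2 : g a = f (h ⟨a, Ideal.pow_le_pow_right hKK' ha⟩) := congrArg (fun k => k ⟨a, ha⟩) hg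
  rw [← smap_smul, ← hh ⟨a, Ideal.pow_le_pow_right hKK' ha⟩, smap_toSec, ← h2]
  refine ((toSecL N _).map_smul a (g (1 : A))).symm.trans ?_
  show toSec (a • g (1 : A)) _ = toSec (g a) _
  rw [← map_smul, smul_eq_mul, mul_one]

theorem exists_toSec_eq [Module.Finite A Q] {N : Type u} [AddCommGroup N] [Module A N] (f : Q →ₗ[A] N)
    (hf : ∀ z : LocCoh.H 𝔞 1 Q, Hmap 𝔞 1 f z = 0) (σ : Sec A Q (LocCoh.puncturedOpen A 𝔞)) :
    ∃ x : N, toSec x (LocCoh.puncturedOpen A 𝔞) = smap f _ σ := by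
  obtain ⟨z, hz⟩ := exists_class σ
  exact hz N f (hf z)

section Tower

variable {K : Type u} [AddCommGroup K] [Module A K] [Module.Finite A K] [IsAdicComplete I A]
  (h0 : ∀ n, ∃ N, ∀ (k : ℕ) (hk : n ≤ k), N ≤ k →
    ∀ z : LocCoh.H 𝔞 0 (Formal2.quotPow A I K k), Hmap 𝔞 0 (qtrans I K hk) z = 0)
  (h1 : ∀ n, ∃ N, ∀ (k : ℕ) (hk : n ≤ k), N ≤ k →
    ∀ z : LocCoh.H 𝔞 1 (Formal2.quotPow A I K k), Hmap 𝔞 1 (qtrans I K hk) z = 0)
include h0 h1

theorem sSurj_of_pro : SSurj I K (LocCoh.puncturedOpen A 𝔞) := by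
  intro y hy
  let U : Opens (PrimeSpectrum A) := LocCoh.puncturedOpen A 𝔞
  have hx : ∀ n, ∃ x, toSec x U = y n := fun n => by
    obtain ⟨N, hN⟩ := h1 n
    haveI : Module.Finite A (Formal2.quotPow A I K (max n N)) :=
      Module.Finite.of_surjective (Formal2.quotPowπ A I K (max n N)) (Submodule.mkQ_surjective _)
    obtain ⟨x, hx⟩ := exists_toSec_eq (qtrans I K (le_max_left n N)) (hN _ _ (le_max_right n N)) (y (max n N))
    exact ⟨x, hx.trans (qtrans_compat I hy _)⟩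
  choose x hx using hx
  have hdet : ∀ n, ∃ (m : ℕ) (hnm : n ≤ m), ∀ (M : ℕ) (hM : m ≤ M) (w : Formal2.quotPow A I K M),
      toSec w U = y M → qtrans I K (hnm.trans hM) w = qtrans I K hnm (x m) := fun n => by
    obtain ⟨N, hN⟩ := h0 n
    refine ⟨max n N, le_max_left _ _, fun M hM w hw => ?_⟩
    have hγ : qtrans I K hM w - x (max n N) ∈ gamma 𝔞 (Formal2.quotPow A I K (max n N)) := by
      refine mem_gamma_of_toSec_eq_zero ?_
      show toSecL _ U _ = 0
      rw [map_sub, sub_eq_zero]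
      show toSec _ U = toSec _ U
      rw [← smap_toSec, hw, hx]
      exact qtrans_compat I hy hM
    rw [← range_h0] at hγ
    obtain ⟨z, hz⟩ := hγ
    rw [← sub_eq_zero, ← LinearMap.congr_fun (qtrans_qtrans I (le_max_left n N) hM) w, LinearMap.comp_apply,
      ← map_sub, ← hz, ← h0_Hmap, hN _ _ (le_max_right n N), map_zero]
  choose m hnm hm using hdet
  let z : ∀ n, Formal2.quotPow A I K n := fun n => qtrans I K (hnm n) (x (m n))
  have hz : ∀ n, toSec (z n) U = y n := fun n => by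
    rw [← smap_toSec, hx]
    exact qtrans_compat I hy _
  have hzc : ∀ {n n' : ℕ} (h : n ≤ n'), qtrans I K h (z n') = z n := fun {n n'} h => by
    have e1 := hm n _ (le_max_left (m n) (m n')) (x (max (m n) (m n'))) (hx _)
    have e2 := hm n' _ (le_max_right (m n) (m n')) (x (max (m n) (m n'))) (hx _)
    show _ = qtrans I K (hnm n) (x (m n))
    rw [show z n' = qtrans I K (hnm n') (x (m n')) from rfl, ← e2, ← e1, ← LinearMap.comp_apply, qtrans_qtrans]
  haveI := AdicC27.isAdicComplete_of_finite (I := I) K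
  choose a ha using fun n => Submodule.mkQ_surjective (I ^ (n + 1) • (⊤ : Submodule A K)) (z n)
  obtain ⟨L, hL⟩ := IsPrecomplete.prec (IsAdicComplete.toIsPrecomplete (I := I) (M := K)) (f := a)
    fun {p q} hpq => by
      refine (SModEq.sub_mem).2 (Submodule.smul_mono_left (Ideal.pow_le_pow_right (Nat.le_succ p)) ?_)
      rw [← Submodule.Quotient.eq]
      refine (ha p).trans ((hzc hpq).symm.trans ?_)
      rw [← ha q]
      exact qtrans_mk I hpq (a q)
  refine ⟨U, admissible_self, toSec L U, fun n => ?_⟩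
  rw [smap_toSec]
  refine Sec.ext' fun p => ?_
  show (y n).1 p = (toSec (Formal2.quotPowπ A I K n L) U).1 p
  have hLn : Formal2.quotPowπ A I K n L = z n := by
    rw [← hzc (Nat.le_succ n), ← ha (n + 1)]
    refine Eq.trans ?_ (qtrans_mk I (Nat.le_succ n) (a (n + 1))).symm
    exact (Submodule.Quotient.eq _).2 (SModEq.sub_mem.1 (hL (n + 1)).symm)
  rw [hLn, hz]

end Tower

end Groth.Agent.AlgSec27
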