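import Groth.Agent.AlgSec27.S2
import Mathlib.RingTheory.Regular.RegularSequence

/-!
The small model of the module and its depths.
-/

set_option autoImplicit false
set_option backward.isDefEq.respectTransparency.types false

universe u

attribute [local instance] HasDerivedCategory.standard

noncomputable section

namespace Groth.Agent.AlgSec27

open LC17 LC16

variable {A : Type u} [CommRing A]

theorem natCast_le_idealDepth {R : Type u} [CommRing R] {J : Ideal R} {M : Type u} [AddCommGroup M] [Module R M]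
    (rs : List R) (h : RingTheory.Sequence.IsWeaklyRegular M rs) (hJ : ∀ r ∈ rs, r ∈ J) :
    (rs.length : ℕ∞) ≤ LocCoh.idealDepth J M := by
  unfold LocCoh.idealDepth
  split
  · exact le_top
  · exact le_iSup₂_of_le rs ⟨h, hJ⟩ le_rfl

variable {N : Type u} [AddCommGroup N] [Module A N] (p : PrimeSpectrum A)

omit p in
theorem mk_zero_iff {S : Submonoid A} (m : N) (s : S) : LocalizedModule.mk m s = 0 ↔ ∃ c : S, c • m = 0 := by
  rw [← LocalizedModule.zero_mk s, LocalizedModule.mk_eq]
  simp only [smul_zero]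
  constructor
  · rintro ⟨u, hu⟩
    exact ⟨u * s, by rw [mul_smul]; exact hu⟩
  · rintro ⟨c, hc⟩
    exact ⟨c, by rw [smul_comm, hc, smul_zero]⟩

theorem one_le_depth {x : A} (hx : x ∈ p.asIdeal) (h : ∀ k : N, x • k = 0 → k = 0) :
    1 ≤ LocCoh.depth (Localization.AtPrime p.asIdeal) (LocalizedModule p.asIdeal.primeCompl N) := by
  refine natCast_le_idealDepth [algebraMap A _ x] ?_ (by
    simpa using (IsLocalization.AtPrime.to_map_mem_maximal_iff (Localization.AtPrime p.asIdeal) p.asIdeal x).2 hx)
  rw [RingTheory.Sequence.isWeaklyRegular_singleton_iff]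
  refine fun a b hab => sub_eq_zero.1 ?_
  have h0 : algebraMap A (Localization.AtPrime p.asIdeal) x • (a - b) = 0 := by
    rw [smul_sub, sub_eq_zero]; exact hab
  revert h0
  generalize a - b = z
  induction z using LocalizedModule.induction_on with
  | h m s =>
    intro h0
    rw [algebraMap_smul, LocalizedModule.smul'_mk, mk_zero_iff] at h0
    obtain ⟨c, hc⟩ := h0
    rw [mk_zero_iff]
    exact ⟨c, h _ (by rw [smul_comm]; exact hc)⟩

theorem two_le_depth {x y : A} (hx : x ∈ p.asIdeal) (hy : y ∈ p.asIdeal) (h : ∀ k : N, x • k = 0 → k = 0)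
    (h2 : ∀ k k' : N, y • k = x • k' → ∃ k'', x • k'' = k) :
    2 ≤ LocCoh.depth (Localization.AtPrime p.asIdeal) (LocalizedModule p.asIdeal.primeCompl N) := by
  let B := Localization.AtPrime p.asIdeal
  let R := LocalizedModule p.asIdeal.primeCompl N
  have hinj : IsSMulRegular R (algebraMap A B x) := by
    refine fun a b hab => sub_eq_zero.1 ?_
    have h0 : algebraMap A B x • (a - b) = 0 := by rw [smul_sub, sub_eq_zero]; exact hab
    revert h0
    generalize a - b = z
    induction z using LocalizedModule.induction_on with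
    | h m s =>
      intro h0
      rw [algebraMap_smul, LocalizedModule.smul'_mk, mk_zero_iff] at h0
      obtain ⟨c, hc⟩ := h0
      rw [mk_zero_iff]
      exact ⟨c, h _ (by rw [smul_comm]; exact hc)⟩
  refine natCast_le_idealDepth [algebraMap A B x, algebraMap A B y] ?_ (by
    simp only [List.mem_cons, List.mem_nil_iff, or_false, forall_eq_or_imp, forall_eq]
    exact ⟨(IsLocalization.AtPrime.to_map_mem_maximal_iff B p.asIdeal x).2 hx,
      (IsLocalization.AtPrime.to_map_mem_maximal_iff B p.asIdeal y).2 hy⟩)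
  rw [RingTheory.Sequence.isWeaklyRegular_cons_iff, RingTheory.Sequence.isWeaklyRegular_singleton_iff]
  refine ⟨hinj, fun a b hab => sub_eq_zero.1 ?_⟩
  have h0 : algebraMap A B y • (a - b) = 0 := by rw [smul_sub, sub_eq_zero]; exact hab
  revert h0
  generalize a - b = z
  obtain ⟨z, rfl⟩ := Submodule.Quotient.mk_surjective _ z
  intro h0
  rw [← Submodule.Quotient.mk_smul, Submodule.Quotient.mk_eq_zero,
    Submodule.mem_smul_pointwise_iff_exists] at h0
  obtain ⟨w, -, hw⟩ := h0
  rw [Submodule.Quotient.mk_eq_zero, Submodule.mem_smul_pointwise_iff_exists]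
  induction z using LocalizedModule.induction_on with
  | h m s =>
    induction w using LocalizedModule.induction_on with
    | h m' s' =>
      rw [algebraMap_smul, algebraMap_smul, LocalizedModule.smul'_mk, LocalizedModule.smul'_mk,
        LocalizedModule.mk_eq] at hw
      obtain ⟨c, hc⟩ := hw
      simp only [Submonoid.smul_def, smul_smul] at hc
      obtain ⟨k'', hk''⟩ := h2 (((c : A) * (s' : A)) • m) (((c : A) * (s : A)) • m') (by
        rw [smul_smul, smul_smul, mul_comm y, mul_comm x, mul_assoc, mul_assoc]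
        exact hc.symm)
      refine ⟨LocalizedModule.mk k'' (c * s' * s), Submodule.mem_top, ?_⟩
      rw [algebraMap_smul, LocalizedModule.smul'_mk, hk'', LocalizedModule.mk_eq]
      refine ⟨1, ?_⟩
      simp only [Submonoid.smul_def, one_smul, Submonoid.coe_mul, smul_smul]
      congr 1
      ring

variable {ω : Dual.D A} (hω : Dual.IsDualizing A ω) (P : PrimeSpectrum A)
include hω

theorem exists_S2 : ∃ (K : Type u) (_ : AddCommGroup K) (_ : Module A K), Module.Finite A K ∧
    (∀ a ∈ P.asIdeal, ∀ k : K, a • k = 0) ∧ (∀ x ∉ P.asIdeal, ∀ k : K, x • k = 0 → k = 0) ∧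
    (∃ k : K, k ≠ 0) ∧ ∀ p : PrimeSpectrum A, P ≤ p →
      (DualAnn.mu hω P < DualAnn.mu hω p →
        1 ≤ LocCoh.depth (Localization.AtPrime p.asIdeal) (LocalizedModule p.asIdeal.primeCompl K)) ∧
      (DualAnn.mu hω P + 2 ≤ DualAnn.mu hω p →
        2 ≤ LocCoh.depth (Localization.AtPrime p.asIdeal) (LocalizedModule p.asIdeal.primeCompl K)) := by
  haveI := hω.isNoetherianRing
  haveI : Module.Finite A (K₀ hω P) := finite_GM hω _ _
  obtain ⟨r, g, hg⟩ := Module.Finite.exists_fin' A (K₀ hω P)
  let e : ((Fin r → A) ⧸ LinearMap.ker g) ≃ₗ[A] K₀ hω P := g.quotKerEquivOfSurjective hg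
  have hinj : ∀ x ∉ P.asIdeal, ∀ k : (Fin r → A) ⧸ LinearMap.ker g, x • k = 0 → k = 0 := fun x hx k hk =>
    e.map_eq_zero_iff.1 (injective_smul_K₀ hω P hx (e k) (by rw [← map_smul, hk, map_zero]))
  refine ⟨(Fin r → A) ⧸ LinearMap.ker g, inferInstance, inferInstance, inferInstance,
    fun a ha k => e.map_eq_zero_iff.1 (by rw [map_smul, smul_K₀ hω P ha]), hinj, ?_, fun p hp => ⟨fun h => ?_, fun h => ?_⟩⟩
  · obtain ⟨k, hk⟩ := exists_K₀_ne_zero hω P
    exact ⟨e.symm k, fun h => hk (e.symm.map_eq_zero_iff.1 h)⟩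
  · obtain ⟨x, hxp, hxP⟩ := SetLike.exists_of_lt (show P.asIdeal < p.asIdeal from
      lt_of_le_of_ne hp fun heq => h.ne (congrArg (DualAnn.mu hω) (PrimeSpectrum.ext heq)))
    exact one_le_depth p hxp (hinj x hxP)
  · obtain ⟨x, hxp, hxP, y, hyp, hxy⟩ := exists_regular_pair hω P hp h
    refine two_le_depth p hxp hyp (hinj x hxP) fun k k' hk => ?_
    obtain ⟨k'', hk''⟩ := smul_mem_K₀ hω P hxP hxy (e k) (e k') (by rw [← map_smul, ← map_smul, hk])
    exact ⟨e.symm k'', by rw [← map_smul, hk'', LinearEquiv.symm_apply_apply]⟩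

end Groth.Agent.AlgSec27
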