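import Groth.Agent.AlgSec27.Pro
import Groth.Agent.AlgSec27.Link
import Groth.Agent.AlgSec27.S2Depth
import Mathlib.RingTheory.Filtration
import Mathlib.RingTheory.Ideal.AssociatedPrime.Finiteness

/-!
Dévissage for algebraization of formal sections.
-/

set_option autoImplicit false
set_option backward.isDefEq.respectTransparency.types false

universe u

open CategoryTheory TopologicalSpace

attribute [local instance] HasDerivedCategory.standard

noncomputable section

namespace Groth.Agent.AlgSec27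

open Frac27 LC16

variable {A : Type u} [CommRing A] [IsNoetherianRing A] {I 𝔞 : Ideal A}
  {U : Opens (PrimeSpectrum A)}

/-- A section vanishes near the points of `V(I)` at which all reductions vanish (Krull). -/
theorem sInj_of_finite (M : Type u) [AddCommGroup M] [Module A M] [Module.Finite A M] : SInj I M U := by
  intro V hV s hs
  classical
  let Z : Set (PrimeSpectrum A) := {p | ∃ h : p ∈ V, s.1 ⟨p, h⟩ = 0}
  have hZ : IsOpen Z := by
    rw [isOpen_iff_forall_mem_open]
    rintro p ⟨hp, h0⟩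
    obtain ⟨r, m, hr, hrep⟩ := exists_rep s ⟨p, hp⟩
    obtain ⟨_, he⟩ := hrep p hr
    obtain ⟨c, hc, hcm⟩ := (frac_eq_zero_iff _ _ _).1 (he.symm.trans h0)
    refine ⟨PrimeSpectrum.basicOpen (c * r), fun q hq => ?_, (PrimeSpectrum.basicOpen (c * r)).isOpen,
      p.isPrime.mul_notMem hc hr⟩
    obtain ⟨hqV, he'⟩ := hrep q fun h => hq (Ideal.mul_mem_left _ _ h)
    exact ⟨hqV, he'.trans ((frac_eq_zero_iff _ _ _).2 ⟨c, fun h => hq (Ideal.mul_mem_right _ _ h), hcm⟩)⟩
  refine ⟨⟨Z, hZ⟩, ⟨⟨fun p hp => hV.1 hp.1, fun p hpU hpI => ⟨hV.2 p hpU hpI, ?_⟩⟩, fun p hp => hp.1⟩,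
    Sec.ext' fun y => y.2.2⟩
  let S := p.asIdeal.primeCompl
  let B := Localization.AtPrime p.asIdeal
  haveI : IsNoetherianRing B := IsLocalization.isNoetherianRing S _ inferInstance
  haveI : Module.Finite B (Loc A M p) := Module.Finite.of_isLocalizedModule S (LocalizedModule.mkLinearMap _ M)
  have hJ : I.map (algebraMap A B) ≠ ⊤ := fun htop => by
    have h1 : I.map (algebraMap A B) ≤ IsLocalRing.maximalIdeal B := Ideal.map_le_iff_le_comap.2 fun a ha =>
      (IsLocalization.AtPrime.to_map_mem_maximal_iff B p.asIdeal a).2 (hpI ha)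
    exact (IsLocalRing.maximalIdeal.isMaximal B).ne_top (top_le_iff.1 (htop ▸ h1))
  have key : s.1 ⟨p, hV.2 p hpU hpI⟩ ∈ ⨅ n : ℕ, (I.map (algebraMap A B)) ^ n • (⊤ : Submodule B (Loc A M p)) := by
    rw [Submodule.mem_iInf]
    intro n
    refine Submodule.smul_mono_left (Ideal.pow_le_pow_right (Nat.le_succ n)) ?_
    have h0 := congrArg (fun σ => σ.1 (⟨p, hV.2 p hpU hpI⟩ : V)) (hs n)
    obtain ⟨m, r, hr, he⟩ := exists_frac (s.1 ⟨p, hV.2 p hpU hpI⟩)
    rw [smap_apply, he, lmap_frac] at h0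
    obtain ⟨c, hc, hcm⟩ := (frac_eq_zero_iff _ _ _).1 h0
    rw [← map_smul] at hcm
    have hmem : c • m ∈ I ^ (n + 1) • (⊤ : Submodule A M) := (Submodule.Quotient.mk_eq_zero _).1 hcm
    rw [he, ← frac_smul_mul m r c hr (p.isPrime.mul_notMem hc hr)]
    generalize c • m = w at hmem
    revert hmem
    intro hmem
    have hd := p.isPrime.mul_notMem hc hr
    refine Submodule.smul_induction_on (p := fun w => frac w (c * r) hd ∈
      (I.map (algebraMap A B)) ^ (n + 1) • (⊤ : Submodule B (Loc A M p))) hmem (fun a ha x _ => ?_) fun x y hx hy => ?_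
    · rw [← smul_frac, ← algebraMap_smul B a]
      exact Submodule.smul_mem_smul (by rw [← Ideal.map_pow]; exact Ideal.mem_map_of_mem _ ha) Submodule.mem_top
    · have e : frac (x + y) (c * r) hd = frac x (c * r) hd + frac y (c * r) hd := by
        rw [frac, frac, frac, LocalizedModule.mk_add_mk, LocalizedModule.mk_eq]
        exact ⟨1, by simp [Submonoid.smul_def, smul_smul]⟩
      rw [e]
      exact add_mem hx hy
  rw [Ideal.iInf_pow_smul_eq_bot_of_le_jacobson (I := I.map (algebraMap A B))] at key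
  · exact (Submodule.mem_bot B).1 key
  · exact (IsLocalRing.le_maximalIdeal hJ).trans (IsLocalRing.maximalIdeal_le_jacobson _)

/-- Both parts of the bijectivity. -/
def Good (I : Ideal A) (U : Opens (PrimeSpectrum A)) (M : Type u) [AddCommGroup M] [Module A M] : Prop :=
  SInj I M U ∧ SSurj I M U

theorem good_of_injective {M' M : Type u} [AddCommGroup M'] [Module A M'] [AddCommGroup M] [Module A M]
    [Module.Finite A M] (f : M' →ₗ[A] M) (hf : Function.Injective f) (h : Good I U M) : Good I U M' :=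
  left_of_middle_right f (LinearMap.range f).mkQ hf (Submodule.mkQ_surjective _)
    (Submodule.ker_mkQ _).symm h (sInj_of_finite _)

theorem good_prod {M' M'' : Type u} [AddCommGroup M'] [Module A M'] [Module.Finite A M'] [AddCommGroup M'']
    [Module A M''] [Module.Finite A M''] (h : Good I U M') (h'' : Good I U M'') : Good I U (M' × M'') :=
  middle_of_left_right (LinearMap.inl A M' M'') (LinearMap.snd A M' M'') LinearMap.inl_injective
    Prod.snd_surjective (LinearMap.range_inl A M' M'') h h''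

omit [IsNoetherianRing A] in
theorem loc_eq_zero_of_smul {M : Type u} [AddCommGroup M] [Module A M] {p : PrimeSpectrum A} {a : A}
    (ha : a ∉ p.asIdeal) (h : ∀ x : M, a • x = 0) (z : Loc A M p) : z = 0 := by
  obtain ⟨m, r, hr, rfl⟩ := exists_frac z
  exact (frac_eq_zero_iff _ _ _).2 ⟨a, ha, h m⟩

theorem good_of_disjoint {M : Type u} [AddCommGroup M] [Module A M] [Module.Finite A M] {P : Ideal A}
    (hP : ∀ a ∈ P, ∀ x : M, a • x = 0) (h : ∀ p : PrimeSpectrum A, p ∈ U → P ≤ p.asIdeal → ¬ I ≤ p.asIdeal) :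
    Good I U M := by
  refine ⟨sInj_of_finite M, fun y _ => ⟨U, admissible_self, 0, fun n => ?_⟩⟩
  refine Sec.ext' fun p => ?_
  rw [map_zero]
  by_cases hp : P ≤ p.1.asIdeal
  · exact loc_quot_eq_zero (fun hI => h p.1 p.2 hp hI) n _
  · obtain ⟨a, haP, hap⟩ := SetLike.not_le_iff_exists.1 hp
    exact loc_eq_zero_of_smul hap (fun x => by
      obtain ⟨x, rfl⟩ := Submodule.mkQ_surjective _ x
      rw [← map_smul, hP a haP, map_zero]) _

theorem good_of_killed {M : Type u} [AddCommGroup M] [Module A M] [Module.Finite A M]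
    (hI : ∀ a ∈ I, ∀ x : M, a • x = 0) : Good I U M := by
  refine ⟨sInj_of_finite M, fun y hy => ?_⟩
  have h0 : ∀ n, Function.Bijective (Formal2.quotPowπ A I M n) := fun n =>
    ⟨LinearMap.ker_eq_bot.1 (by
      rw [Formal2.quotPowπ, Submodule.ker_mkQ, ← le_bot_iff, Submodule.smul_le]
      exact fun a ha x _ => (Submodule.mem_bot A).2 (hI a (Ideal.pow_le_self (Nat.succ_ne_zero n) ha) x)),
      Submodule.mkQ_surjective _⟩
  let e := LinearEquiv.ofBijective _ (h0 0)
  refine ⟨U, admissible_self, smap e.symm.toLinearMap U (y 0), fun n => ?_⟩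
  have e1 : (Formal2.quotPowπ A I M n ∘ₗ e.symm.toLinearMap) ∘ₗ qtrans I M (Nat.zero_le n) = LinearMap.id :=
    quot_hom_ext I fun x => by
      simp only [LinearMap.comp_apply, LinearMap.id_apply, qtrans_mk]
      exact congrArg _ (e.symm_apply_apply x)
  rw [← qtrans_compat I hy (Nat.zero_le n), smap_smap, smap_smap, e1]
  refine Sec.ext' fun p => ?_
  obtain ⟨m, r, hr, he⟩ := exists_frac ((y n).1 ⟨p.1, p.2⟩)
  rw [sres_apply, smap_apply, he, lmap_frac, LinearMap.id_apply]

/-- Torsion-free modules over `A/P` embed into sums of a good one. -/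
theorem good_of_torsionFree {P : Ideal A} [P.IsPrime] {N K : Type u} [AddCommGroup N] [Module A N]
    [Module.Finite A N] [AddCommGroup K] [Module A K] [Module.Finite A K] (hK : Good I U K)
    (hKP : ∀ a ∈ P, ∀ k : K, a • k = 0) (hKt : ∀ a ∉ P, ∀ k : K, a • k = 0 → k = 0) (hK0 : ∃ k : K, k ≠ 0)
    (hNP : ∀ a ∈ P, ∀ x : N, a • x = 0) (hNt : ∀ a ∉ P, ∀ x : N, a • x = 0 → x = 0) : Good I U N := by
  classical
  obtain ⟨k₀, hk₀⟩ := hK0
  obtain ⟨L, hL, hmax⟩ := set_has_maximal_iff_noetherian.mpr (inferInstanceAs (IsNoetherian A N))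
    {L : Submodule A N | Good I U L} ⟨⊥, good_of_killed fun a _ x => Subsingleton.elim _ _⟩
  have hc : ∀ x : N, ∃ a ∉ P, a • x ∈ L := fun x => by
    by_contra hne
    push Not at hne
    have hx : x ≠ 0 := fun h => hne 1 (Ideal.one_notMem P) (by rw [h, smul_zero]; exact zero_mem L)
    let S := LinearMap.range (LinearMap.toSpanSingleton A N x)
    let φ : A ⧸ P →ₗ[A] K := Submodule.liftQ P (LinearMap.toSpanSingleton A K k₀) fun a ha => hKP a ha k₀
    let ψ : A ⧸ P →ₗ[A] N := Submodule.liftQ P (LinearMap.toSpanSingleton A N x) fun a ha => hNP a ha x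
    have hφ : Function.Injective φ := LinearMap.ker_eq_bot.1 (Submodule.ker_liftQ_eq_bot _ _ _ fun a ha =>
      by_contra fun h => hk₀ (hKt a h k₀ ha))
    haveI : Module.Finite A (A ⧸ P) := Module.Finite.of_surjective P.mkQ P.mkQ_surjective
    have hg : Good I U (L × (A ⧸ P)) := good_prod hL (good_of_injective φ hφ hK)
    let f : L × (A ⧸ P) →ₗ[A] N := L.subtype.coprod ψ
    have hf : Function.Injective f := by
      rw [injective_iff_map_eq_zero]
      rintro ⟨⟨v, hv⟩, b⟩ h
      obtain ⟨b, rfl⟩ := P.mkQ_surjective b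
      have h' : v + b • x = 0 := h
      have hb : b ∈ P := by
        by_contra hb
        exact hne b hb (by rw [eq_neg_of_add_eq_zero_right h']; exact neg_mem hv)
      refine Prod.ext (Subtype.ext ?_) ((Submodule.Quotient.mk_eq_zero P).2 hb)
      rw [hNP b hb x, add_zero] at h'
      exact h'
    have hgood : Good I U (LinearMap.range f) :=
      good_of_injective (LinearEquiv.ofInjective f hf).symm.toLinearMap (LinearEquiv.injective _) hg
    refine hmax _ hgood (lt_of_le_of_ne (fun v hv => ⟨(⟨v, hv⟩, 0), by simp [f]⟩) fun heq => ?_)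
    refine hne 1 (Ideal.one_notMem P) ?_
    rw [one_smul, heq]
    exact ⟨(0, P.mkQ 1), by
      show ((0 : L) : N) + (1 : A) • x = x
      rw [one_smul, Submodule.coe_zero, zero_add]⟩
  choose c hcP hcL using hc
  obtain ⟨s, hs⟩ := Module.Finite.fg_top (R := A) (M := N)
  let a := ∏ x ∈ s, c x
  have ha : a ∉ P := fun h => by
    obtain ⟨x, -, hx⟩ := (Ideal.IsPrime.prod_mem_iff).1 h
    exact hcP x hx
  have hrange : ∀ x : N, a • x ∈ L := fun x => by
    refine Submodule.span_induction (p := fun x _ => a • x ∈ L) (fun y hy => ?_) ?_ (fun y z _ _ hy hz => ?_)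
      (fun b y _ hy => ?_) (hs ▸ Submodule.mem_top : x ∈ Submodule.span A (s : Set N))
    · obtain ⟨b, hb⟩ : c y ∣ a := Finset.dvd_prod_of_mem c hy
      rw [hb, mul_comm, mul_smul]
      exact L.smul_mem _ (hcL y)
    · rw [smul_zero]; exact zero_mem L
    · rw [smul_add]; exact add_mem hy hz
    · rw [smul_comm]; exact L.smul_mem _ hy
  exact good_of_injective ((a • LinearMap.id : N →ₗ[A] N).codRestrict L hrange)
    (fun x y hxy => sub_eq_zero.1 (hNt a ha _ (by rw [smul_sub, sub_eq_zero]; exact congrArg Subtype.val hxy))) hL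

variable {ω : Dual.D A} (hω : Dual.IsDualizing A ω) (hI : I ≤ 𝔞) {d : ℕ} (hd : LocCoh.CdLE A I d)
  [IsAdicComplete I A]
include hω hI hd

/-- Modules killed by a prime and torsion free over the quotient. -/
theorem good_of_prime (P : PrimeSpectrum A)
    (hdim : ¬ 𝔞 ≤ P.asIdeal → ¬ I ≤ P.asIdeal →
      (∃ r : Ideal A, r.IsPrime ∧ P.asIdeal ≤ r ∧ I ≤ r ∧ ¬ 𝔞 ≤ r) →
        ∀ (q : Ideal A) [q.IsPrime], P.asIdeal ≤ q → 𝔞 ≤ q →
          ((d + 1 : ℕ) : WithBot ℕ∞) < Formal2.dimBetween A P.asIdeal q)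
    {N : Type u} [AddCommGroup N] [Module A N] [Module.Finite A N] (hNP : ∀ a ∈ P.asIdeal, ∀ x : N, a • x = 0)
    (hNt : ∀ a ∉ P.asIdeal, ∀ x : N, a • x = 0 → x = 0) : Good I (LocCoh.puncturedOpen A 𝔞) N := by
  by_cases hr : ∃ r : Ideal A, r.IsPrime ∧ P.asIdeal ≤ r ∧ I ≤ r ∧ ¬ 𝔞 ≤ r
  swap
  · exact good_of_disjoint hNP fun p hp hPp hIp => hr ⟨p.asIdeal, p.isPrime, hPp, hIp, hp⟩
  by_cases hIP : I ≤ P.asIdeal
  · exact good_of_killed fun a ha => hNP a (hIP ha)
  obtain ⟨r, hrp, hPr, hIr, har⟩ := hr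
  have haP : ¬ 𝔞 ≤ P.asIdeal := fun h => har (h.trans hPr)
  have hdim' : ∀ q : PrimeSpectrum A, P ≤ q → 𝔞 ≤ q.asIdeal →
      ((d + 1 : ℕ) : WithBot ℕ∞) < Formal2.dimBetween A P.asIdeal q.asIdeal := fun q hPq haq =>
    hdim haP hIP ⟨r, hrp, hPr, hIr, har⟩ q.asIdeal hPq haq
  obtain ⟨K, iK, iMK, hfin, hKP, hKt, hK0, hdepth⟩ := exists_S2 hω P
  have hG : GoodMod hω P K := ⟨hfin, hKP, fun p hp => (hdepth p hp).1, fun p hp => (hdepth p hp).2⟩
  have hK : Good I (LocCoh.puncturedOpen A 𝔞) K := ⟨sInj_of_finite K, sSurj_of_pro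
    (fun n => exists_Hmap_qtrans_eq_zero hω hG hI hd hdim' zero_le_one n)
    (fun n => exists_Hmap_qtrans_eq_zero hω hG hI hd hdim' le_rfl n)⟩
  exact good_of_torsionFree hK hKP hKt hK0 hNP hNt

/-- The algebraization of formal sections. -/
theorem good_of_associatedPrimes (M : Type u) [AddCommGroup M] [Module A M] [Module.Finite A M]
    (h₂ : ∀ p ∈ associatedPrimes A M, ¬ 𝔞 ≤ p → ¬ I ≤ p →
      (∃ r : Ideal A, r.IsPrime ∧ p ≤ r ∧ I ≤ r ∧ ¬ 𝔞 ≤ r) →
        ∀ (q : Ideal A) [q.IsPrime], p ≤ q → 𝔞 ≤ q → ((d + 1 : ℕ) : WithBot ℕ∞) < Formal2.dimBetween A p q) :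
    Good I (LocCoh.puncturedOpen A 𝔞) M := by
  classical
  suffices h : ∀ N : Submodule A M, associatedPrimes A (M ⧸ N) ⊆ associatedPrimes A M →
      Good I (LocCoh.puncturedOpen A 𝔞) (M ⧸ N) by
    have e := (Submodule.quotEquivOfEqBot (⊥ : Submodule A M) rfl)
    exact good_of_injective e.symm.toLinearMap e.symm.injective
      (h ⊥ (le_of_eq (LinearEquiv.AssociatedPrimes.eq e)))
  intro N
  induction N using (wellFounded_gt (α := Submodule A M)).induction with
  | h N ih =>
    intro hN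
    rcases subsingleton_or_nontrivial (M ⧸ N) with hs | hs
    · exact good_of_killed fun a _ x => Subsingleton.elim _ _
    obtain ⟨P, hP, hPmax⟩ := (associatedPrimes.finite A (M ⧸ N)).exists_maximal (associatedPrimes.nonempty A _)
    haveI : P.IsPrime := hP.1
    let T : Submodule A (M ⧸ N) :=
      { carrier := {x | ∀ a ∈ P, a • x = 0}
        zero_mem' := fun a _ => smul_zero a
        add_mem' := fun hx hy a ha => by rw [smul_add, hx a ha, hy a ha, add_zero]
        smul_mem' := fun b x hx a ha => by rw [smul_comm, hx a ha, smul_zero] }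
    have hT : Good I (LocCoh.puncturedOpen A 𝔞) T := by
      refine good_of_prime hω hI hd ⟨P, hP.1⟩ (fun h1 h2 h3 q => h₂ P (hN hP) h1 h2 h3 q)
        (fun a ha x => Subtype.ext (x.2 a ha)) fun a ha x hx => ?_
      by_contra hne
      obtain ⟨Q, hQ, hle⟩ := exists_le_isAssociatedPrime_of_isNoetherianRing A (x : M ⧸ N)
        (fun h => hne (Subtype.ext h))
      have hPQ : P ≤ Q := fun b hb => hle (Submodule.mem_colon_singleton.2 ((Submodule.mem_bot A).2 (x.2 b hb)))
      exact ha (hPmax hQ hPQ (hle (Submodule.mem_colon_singleton.2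
        ((Submodule.mem_bot A).2 (congrArg Subtype.val hx)))))
    let N' := T.comap N.mkQ
    have hlt : N < N' := by
      refine lt_of_le_of_ne (fun v hv => ?_) fun heq => ?_
      · show N.mkQ v ∈ T
        rw [show N.mkQ v = 0 from (Submodule.Quotient.mk_eq_zero N).2 hv]
        exact zero_mem T
      · obtain ⟨-, x, hx⟩ := (isAssociatedPrime_iff).1 hP
        obtain ⟨v, rfl⟩ := N.mkQ_surjective x
        have hvN : v ∈ N := heq.symm ▸ (show N.mkQ v ∈ T from fun a ha =>
          (Submodule.mem_bot A).1 (Submodule.mem_colon_singleton.1 (hx ▸ ha)))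
        refine hP.1.ne_top ((Ideal.eq_top_iff_one P).2 (hx ▸ Submodule.mem_colon_singleton.2 ?_))
        rw [one_smul, show N.mkQ v = 0 from (Submodule.Quotient.mk_eq_zero N).2 hvN]
        exact zero_mem _
    have hass : associatedPrimes A (M ⧸ N') ⊆ associatedPrimes A (M ⧸ N) := by
      intro Q hQ
      obtain ⟨hQp, x, hx⟩ := (isAssociatedPrime_iff).1 hQ
      obtain ⟨v, rfl⟩ := N'.mkQ_surjective x
      obtain ⟨s, hs⟩ := (IsNoetherian.noetherian P : P.FG)
      have hinf : (s.inf fun a => (⊥ : Submodule A (M ⧸ N)).colon {a • N.mkQ v}) ≤ Q := by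
        intro b hb
        rw [hx, Submodule.mem_colon_singleton, Submodule.mem_bot, ← map_smul]
        refine (Submodule.Quotient.mk_eq_zero N').2 fun a ha => ?_
        have hmem : b ∈ (⊥ : Submodule A (M ⧸ N)).colon {a • N.mkQ v} := by
          refine Submodule.span_induction (p := fun a _ => b ∈ (⊥ : Submodule A (M ⧸ N)).colon {a • N.mkQ v})
            (fun y hy => Submodule.mem_finsetInf.1 hb y hy) ?_ (fun y z _ _ hy hz => ?_) (fun c y _ hy => ?_)
            (hs.symm ▸ ha : a ∈ Submodule.span A (s : Set A))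
          · simp [Submodule.mem_colon_singleton]
          · simp only [Submodule.mem_colon_singleton, Submodule.mem_bot, add_smul, smul_add] at hy hz ⊢
            rw [hy, hz, add_zero]
          · simp only [Submodule.mem_colon_singleton, Submodule.mem_bot, smul_eq_mul] at hy ⊢
            rw [mul_smul, smul_comm b c, hy, smul_zero]
        rw [Submodule.mem_colon_singleton, Submodule.mem_bot, smul_comm, ← map_smul] at hmem
        exact hmem
      obtain ⟨a, has, ha⟩ := (Ideal.IsPrime.inf_le' hQp).1 hinf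
      refine (isAssociatedPrime_iff).2 ⟨hQp, a • N.mkQ v, le_antisymm (fun b hb => ?_) ha⟩
      rw [hx, Submodule.mem_colon_singleton, Submodule.mem_bot, ← map_smul] at hb
      rw [Submodule.mem_colon_singleton, Submodule.mem_bot, smul_comm, ← map_smul]
      exact (Submodule.Quotient.mk_eq_zero N').1 hb a (hs ▸ Submodule.subset_span has)
    let g : (M ⧸ N) →ₗ[A] M ⧸ N' := Submodule.factor hlt.le
    refine middle_of_left_right T.subtype g Subtype.val_injective (Submodule.factor_surjective hlt.le) ?_ hT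
      (ih N' hlt (hass.trans hN))
    rw [Submodule.range_subtype]
    refine Submodule.ext fun x => ?_
    obtain ⟨v, rfl⟩ := N.mkQ_surjective x
    exact ((Submodule.Quotient.mk_eq_zero N').trans Submodule.mem_comap).symm

end Groth.Agent.AlgSec27
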