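import Groth.Agent.AlgSec27.Link
import Groth.Agent.LC16.SuppT3
import Groth.Agent.LC17.IDepth

/-!
Sections extend uniquely across closed sets of depth at least two.
-/

set_option autoImplicit false
set_option backward.isDefEq.respectTransparency.types false

universe u

open CategoryTheory TopologicalSpace

noncomputable section

namespace Groth.Agent.AlgSec27

open Frac27 LC15 LC16

variable {A : Type u} [CommRing A] [IsNoetherianRing A] {M : Type u} [AddCommGroup M] [Module A M]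
  [Module.Finite A M] {U V : Opens (PrimeSpectrum A)}

/-- An open is the complement of the zero locus of an ideal. -/
theorem exists_puncturedOpen (W : Opens (PrimeSpectrum A)) :
    ∃ 𝔟 : Ideal A, (LocCoh.puncturedOpen A 𝔟 : Opens (PrimeSpectrum A)) = W := by
  obtain ⟨𝔟, h𝔟⟩ := (PrimeSpectrum.isClosed_iff_zeroLocus_ideal _).1 W.isOpen.isClosed_compl
  refine ⟨𝔟, TopologicalSpace.Opens.ext ?_⟩
  show (PrimeSpectrum.zeroLocus (R := A) (𝔟 : Set A))ᶜ = (W : Set (PrimeSpectrum A))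
  rw [← h𝔟, compl_compl]

omit [Module.Finite A M] in
theorem exists_minimal_point {𝔟 : Ideal A} (h : ¬ U ≤ (LocCoh.puncturedOpen A 𝔟 : Opens (PrimeSpectrum A))) :
    ∃ p : PrimeSpectrum A, p ∈ U ∧ 𝔟 ≤ p.asIdeal ∧ ∀ q : PrimeSpectrum A, 𝔟 ≤ q.asIdeal → q ≤ p → q = p := by
  obtain ⟨q₀, hq₀, hq₀'⟩ := SetLike.not_le_iff_exists.1 h
  have hb : 𝔟 ≤ q₀.asIdeal := not_not.1 hq₀'
  obtain ⟨P, hP, hPq⟩ := Ideal.exists_minimalPrimes_le hb
  refine ⟨⟨P, hP.1.1⟩, ?_, hP.1.2, fun q hq hqP => ?_⟩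
  · exact (PrimeSpectrum.le_iff_specializes ⟨P, hP.1.1⟩ q₀).1 hPq |>.mem_open U.isOpen hq₀
  · exact le_antisymm hqP (hP.2 ⟨q.isPrime, hq⟩ hqP)

theorem exists_killer_of_depth {𝔟 : Ideal A} (p : PrimeSpectrum A) (hb : 𝔟 ≤ p.asIdeal)
    (hmin : ∀ q : PrimeSpectrum A, 𝔟 ≤ q.asIdeal → q ≤ p → q = p)
    (hd : (2 : ℕ∞) ≤ LocCoh.depth (Localization.AtPrime p.asIdeal) (LocalizedModule p.asIdeal.primeCompl M))
    {i : ℕ} (hi : i < 2) (z : LocCoh.H 𝔟 i M) : ∃ a, a ∉ p.asIdeal ∧ a • z = 0 := by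
  let B := Localization.AtPrime p.asIdeal
  haveI : IsNoetherianRing B := IsLocalization.isNoetherianRing p.asIdeal.primeCompl _ inferInstance
  haveI : Module.Finite B (LocalizedModule p.asIdeal.primeCompl M) :=
    Module.Finite.of_isLocalizedModule p.asIdeal.primeCompl (LocalizedModule.mkLinearMap _ M)
  have hsub := (LC17.natCast_le_idealDepth_iff (IsLocalRing.maximalIdeal B)
    (LocalizedModule p.asIdeal.primeCompl M) 2).1 hd i hi
  obtain ⟨a, ha, haz⟩ := SuppT.killed_of_map_eq_zero p hb hmin i (LinearMap.id : M →ₗ[A] M)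
    (ModuleCat.hom_ext (LinearMap.ext fun x => by
      haveI := hsub
      rw [Subsingleton.elim x 0, map_zero]
      exact (map_zero _).symm)) z
  exact ⟨a, ha, by rwa [Hmap_id, LinearMap.id_apply] at haz⟩

variable (hd : ∀ p : PrimeSpectrum A, p ∈ U → p ∉ V →
  (2 : ℕ∞) ≤ LocCoh.depth (Localization.AtPrime p.asIdeal) (LocalizedModule p.asIdeal.primeCompl M))
include hd

theorem sres_injective_of_depth (h : V ≤ U) {s : Sec A M U} (hs : sres h s = 0) : s = 0 := by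
  obtain ⟨W, ⟨hWU, hVW, hW⟩, hmax⟩ := wellFounded_gt.has_min
    {W : Opens (PrimeSpectrum A) | ∃ (hWU : W ≤ U), V ≤ W ∧ sres hWU s = 0} ⟨V, h, le_rfl, hs⟩
  suffices hUW : U ≤ W by
    refine Sec.ext' fun y => ?_
    exact congrArg (fun σ => σ.1 ⟨y.1, hUW y.2⟩) hW
  by_contra hne
  obtain ⟨𝔟, rfl⟩ := exists_puncturedOpen W
  obtain ⟨p, hpU, hbp, hmin⟩ := exists_minimal_point hne
  obtain ⟨r, m, hr, hrep⟩ := exists_rep s ⟨p, hpU⟩
  obtain ⟨K, hK⟩ := exists_pow_smul_eq_zero r (r • s - toSec m U) fun q hq => by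
    obtain ⟨_, he⟩ := hrep q.1 hq
    change r • s.1 q - frac m 1 q.1.isPrime.one_notMem = 0
    rw [show s.1 q = _ from he, smul_frac, sub_eq_zero, frac, frac, LocalizedModule.mk_eq]
    exact ⟨1, by simp [Submonoid.smul_def]⟩
  have h0 : r ^ (K + 1) • s = toSec (r ^ K • m) U := by
    have h1 : r ^ K • (r • s - toSec m U) = 0 := Sec.ext' hK
    rw [smul_sub, sub_eq_zero, smul_smul, ← pow_succ] at h1
    exact h1.trans ((toSecL M U).map_smul (r ^ K) m).symm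
  have hγ : r ^ K • m ∈ gamma 𝔟 M := mem_gamma_of_toSec_eq_zero (Sec.ext' fun y => by
    have h1 : r ^ (K + 1) • s.1 ⟨y.1, hWU y.2⟩ = frac (r ^ K • m) 1 y.1.isPrime.one_notMem :=
      congrArg (fun σ => σ.1 ⟨y.1, hWU y.2⟩) h0
    have h2 : s.1 ⟨y.1, hWU y.2⟩ = 0 := congrArg (fun σ => σ.1 y) hW
    rw [h2, smul_zero] at h1
    exact h1.symm)
  rw [← range_h0] at hγ
  obtain ⟨z, hz⟩ := hγ
  obtain ⟨a, ha, haz⟩ := exists_killer_of_depth p hbp hmin
    (hd p hpU fun hpV => hVW hpV hbp) two_pos z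
  have ham : a • r ^ K • m = 0 := by rw [← hz, ← map_smul, haz, map_zero]
  let W' : Opens (PrimeSpectrum A) := LocCoh.puncturedOpen A 𝔟 ⊔ (U ⊓ PrimeSpectrum.basicOpen (a * r))
  have hW'U : W' ≤ U := sup_le hWU inf_le_left
  refine hmax W' ⟨hW'U, hVW.trans le_sup_left, Sec.ext' fun y => ?_⟩ ?_
  · rcases y.2 with hy | ⟨hyU, hy⟩
    · exact congrArg (fun σ => σ.1 ⟨y.1, hy⟩) hW
    · have har : a * r ^ (K + 1) ∉ y.1.asIdeal := y.1.isPrime.mul_notMem
        (fun h => hy (Ideal.mul_mem_right _ _ h))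
        fun h => hy (Ideal.mul_mem_left _ _ (y.1.isPrime.mem_of_pow_mem _ h))
      refine smul_cancel har ?_
      show (a * r ^ (K + 1)) • s.1 ⟨y.1, hyU⟩ = _
      rw [mul_smul, show r ^ (K + 1) • s.1 ⟨y.1, hyU⟩ = _ from congrArg (fun σ => σ.1 ⟨y.1, hyU⟩) h0,
        toSec_apply, smul_frac, ham]
      exact (LocalizedModule.zero_mk _).trans (smul_zero _).symm
  · refine lt_of_le_not_ge le_sup_left fun hle => ?_
    exact hle (Or.inr ⟨hpU, p.isPrime.mul_notMem ha hr⟩) hbp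

theorem exists_sres_eq_of_depth (h : V ≤ U) (t : Sec A M V) : ∃ s : Sec A M U, sres h s = t := by
  classical
  obtain ⟨W, ⟨hWU, hVW, t', ht'⟩, hmax⟩ := wellFounded_gt.has_min
    {W : Opens (PrimeSpectrum A) | ∃ (_ : W ≤ U) (hVW : V ≤ W), ∃ t' : Sec A M W, sres hVW t' = t}
    ⟨V, h, le_rfl, t, Sec.ext' fun _ => rfl⟩
  suffices hUW : U ≤ W by
    exact ⟨sres hUW t', by rw [sres_sres]; exact ht'⟩
  by_contra hne
  obtain ⟨𝔟, rfl⟩ := exists_puncturedOpen W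
  obtain ⟨p, hpU, hbp, hmin⟩ := exists_minimal_point hne
  obtain ⟨z, hz⟩ := exists_class t'
  obtain ⟨a, ha, haz⟩ := exists_killer_of_depth p hbp hmin (hd p hpU fun hpV => hVW hpV hbp) one_lt_two z
  obtain ⟨m, hm⟩ := hz M (a • LinearMap.id) (by rw [Hmap_smul, Hmap_id, LinearMap.smul_apply, LinearMap.id_apply, haz])
  have hmy : ∀ y : (LocCoh.puncturedOpen A 𝔟 : Opens (PrimeSpectrum A)),
      a • t'.1 y = frac m 1 y.1.isPrime.one_notMem := fun y => by
    have h1 := congrArg (fun σ => σ.1 y) hm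
    rw [toSec_apply, smap_apply] at h1
    rw [h1]
    obtain ⟨v, r, hr, he⟩ := exists_frac (t'.1 y)
    rw [he, lmap_frac, smul_frac]
    rfl
  let W' : Opens (PrimeSpectrum A) := LocCoh.puncturedOpen A 𝔟 ⊔ (U ⊓ PrimeSpectrum.basicOpen a)
  have hW'U : W' ≤ U := sup_le hWU inf_le_left
  let f : ∀ y : W', Loc A M y.1 := fun y =>
    if hy : y.1 ∈ (LocCoh.puncturedOpen A 𝔟 : Opens (PrimeSpectrum A)) then t'.1 ⟨y.1, hy⟩
    else frac m a (y.2.resolve_left hy).2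
  have hfW : ∀ (y : W') (hy : y.1 ∈ (LocCoh.puncturedOpen A 𝔟 : Opens (PrimeSpectrum A))),
      f y = t'.1 ⟨y.1, hy⟩ := fun y hy => dif_pos hy
  have hf : ∀ (y : W') (hay : a ∉ y.1.asIdeal), f y = frac m a hay := fun y hay => by
    by_cases hy : y.1 ∈ (LocCoh.puncturedOpen A 𝔟 : Opens (PrimeSpectrum A))
    · simp only [f, dif_pos hy]
      refine smul_cancel hay ((hmy ⟨y.1, hy⟩).trans ?_)
      rw [smul_frac, frac, frac, LocalizedModule.mk_eq]
      exact ⟨1, by simp [Submonoid.smul_def]⟩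
    · simp only [f, dif_neg hy]
  let s' : Sec A M W' := mkSec f fun x => by
    by_cases hx : x.1 ∈ (LocCoh.puncturedOpen A 𝔟 : Opens (PrimeSpectrum A))
    · obtain ⟨r, v, hr, hrep⟩ := exists_rep t' ⟨x.1, hx⟩
      refine ⟨r, v, hr, fun y hy => ?_⟩
      obtain ⟨hyW, he⟩ := hrep y.1 hy
      exact (hfW y hyW).trans he
    · exact ⟨a, m, (x.2.resolve_left hx).2, hf⟩
  refine hmax W' ⟨hW'U, hVW.trans le_sup_left, s', Sec.ext' fun y => ?_⟩ ?_
  · rw [sres_apply, mkSec_apply]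
    exact (hfW _ (hVW y.2)).trans (congrArg (fun σ => σ.1 y) ht')
  · refine lt_of_le_not_ge le_sup_left fun hle => ?_
    exact hle (Or.inr ⟨hpU, ha⟩) hbp

end Groth.Agent.AlgSec27
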