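import Groth.Agent.KosPro27.Quot

/-!
Cocycles on Koszul towers: killers and transition maps.
-/

set_option autoImplicit false
set_option backward.isDefEq.respectTransparency.types false

universe w v u

open CategoryTheory CategoryTheory.Limits

noncomputable section

namespace Groth.Agent.KosPro27

variable {A : Type w} [CommRing A] {C : Type u} [Category.{v} C] [Preadditive C] [Linear A C]
  [HasBinaryBiproducts C] (K : Cx C) (g : A)

theorem i₁_d : ∀ t n, i₁ K g (t + 1) n ≫ (cone K g).d t n = K.d t n ≫ i₁ K g t n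
  | 0, n => (biprod.inl_desc _ _).trans (Category.comp_id _).symm
  | t + 1, n => biprod.inl_desc _ _

theorem i₂_d_zero (n : ℕ) : i₂ K g 0 n ≫ (cone K g).d 0 n = g ^ (n + 1) • i₁ K g 0 n :=
  biprod.inr_desc _ _

theorem i₂_d_succ (t n : ℕ) :
    i₂ K g (t + 1) n ≫ (cone K g).d (t + 1) n = g ^ (n + 1) • i₁ K g (t + 1) n - K.d t n ≫ i₂ K g t n :=
  biprod.inr_desc _ _

theorem i₁_φ : ∀ t {n m : ℕ} (h : n ≤ m), i₁ K g t m ≫ (cone K g).φ t h = K.φ t h ≫ i₁ K g t n
  | 0, _, _, _ => (Category.id_comp _).trans (Category.comp_id _).symm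
  | _ + 1, _, _, _ => biprod.inl_map _ _

theorem d_i₂_of_cocycle (t n : ℕ) {N : C} (u : (cone K g).X (t + 1) n ⟶ N)
    (hu : (cone K g).d (t + 1) n ≫ u = 0) :
    K.d t n ≫ i₂ K g t n ≫ u = g ^ (n + 1) • (i₁ K g (t + 1) n ≫ u) := by
  have h := congrArg (fun k => i₂ K g (t + 1) n ≫ k) hu
  simp only [comp_zero, ← Category.assoc, i₂_d_succ] at h
  rw [Preadditive.sub_comp, Linear.smul_comp, sub_eq_zero, Category.assoc] at h
  exact h.symm

/-- Elements killing the cohomology of `K` at position `n`. -/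
def kill (n : ℕ) : Ideal A where
  carrier := {a | (∀ (N : C) (u : K.X 0 n ⟶ N), K.d 0 n ≫ u = 0 → a • u = 0) ∧
    ∀ (t : ℕ) (N : C) (u : K.X (t + 1) n ⟶ N), K.d (t + 1) n ≫ u = 0 → ∃ v, K.d t n ≫ v = a • u}
  add_mem' {a b} ha hb := ⟨fun N u hu => by rw [add_smul, ha.1 N u hu, hb.1 N u hu, add_zero],
    fun t N u hu => by
      obtain ⟨v, hv⟩ := ha.2 t N u hu
      obtain ⟨v', hv'⟩ := hb.2 t N u hu
      exact ⟨v + v', by rw [Preadditive.comp_add, hv, hv', add_smul]⟩⟩
  zero_mem' := ⟨fun N u _ => zero_smul A u, fun t N u _ => ⟨0, by rw [comp_zero, zero_smul]⟩⟩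
  smul_mem' c a ha := ⟨fun N u hu => by rw [smul_eq_mul, mul_smul, ha.1 N u hu, smul_zero],
    fun t N u hu => by
      obtain ⟨v, hv⟩ := ha.2 t N u hu
      exact ⟨c • v, by rw [Linear.comp_smul, hv, smul_eq_mul, mul_smul]⟩⟩

theorem pow_mem_kill_cone (n : ℕ) : g ^ (n + 1) ∈ kill (A := A) (cone K g) n := by
  refine ⟨fun N u hu => ?_, fun t N u hu => ⟨q K g t n ≫ i₂ K g t n ≫ u, ?_⟩⟩
  · have h := congrArg (fun k => i₂ K g 0 n ≫ k) hu
    simp only [comp_zero, ← Category.assoc, i₂_d_zero, Linear.smul_comp] at h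
    have e : i₁ K g 0 n ≫ u = u := Category.id_comp u
    rw [e] at h
    exact h
  · rw [← Category.assoc, d_q, Preadditive.add_comp, Category.assoc, d_i₂_of_cocycle K g t n u hu,
      Linear.comp_smul, Linear.smul_comp, ← smul_add, ← Category.assoc (q K g (t + 1) n),
      ← Category.assoc (p₂ K g t n), ← Preadditive.add_comp, total, Category.id_comp]

theorem mul_mem_kill_cone {n : ℕ} {a b : A} (ha : a ∈ kill (A := A) K n) (hb : b ∈ kill (A := A) K n) :
    a * b ∈ kill (A := A) (cone K g) n := by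
  refine ⟨fun N u hu => ?_, fun t N u hu => ?_⟩
  · have h : K.d 0 n ≫ (i₁ K g 0 n ≫ u) = 0 := by rw [← Category.assoc, ← i₁_d, Category.assoc, hu, comp_zero]
    have e : i₁ K g 0 n ≫ u = u := Category.id_comp u
    rw [e] at h
    have h1 : b • u = 0 := hb.1 N u h
    rw [mul_smul, h1, smul_zero]
  · obtain ⟨v₁, hv₁⟩ := ha.2 t N (i₁ K g (t + 1) n ≫ u) (by
      rw [← Category.assoc, ← i₁_d, Category.assoc, hu, comp_zero])
    let u' := a • u - (cone K g).d t n ≫ q K g t n ≫ v₁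
    have h₁ : i₁ K g (t + 1) n ≫ u' = 0 := by
      rw [Preadditive.comp_sub, Linear.comp_smul, ← Category.assoc (i₁ K g (t + 1) n), i₁_d, Category.assoc,
        ← Category.assoc (i₁ K g t n), i₁_q, Category.id_comp, hv₁, sub_self]
    have h₂ : p₂ K g t n ≫ i₂ K g t n ≫ u' = u' := by
      have := congrArg (fun k => k ≫ u') (total K g t n)
      simp only [Preadditive.add_comp, Category.assoc, h₁, comp_zero, zero_add, Category.id_comp] at this
      exact this
    have hu' : (cone K g).d (t + 1) n ≫ u' = 0 := by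
      rw [Preadditive.comp_sub, Linear.comp_smul, hu, smul_zero, ← Category.assoc, (cone K g).dd, zero_comp,
        sub_zero]
    have h₃ : K.d t n ≫ i₂ K g t n ≫ u' = 0 := by rw [d_i₂_of_cocycle K g t n u' hu', h₁, smul_zero]
    have key : a * b = b * a := mul_comm a b
    cases t with
    | zero =>
      refine ⟨b • (q K g 0 n ≫ v₁), ?_⟩
      have h4 : b • u' = 0 := by
        rw [← h₂, ← Linear.comp_smul, hb.1 N (i₂ K g 0 n ≫ u') h₃, comp_zero]
      rw [Linear.comp_smul, key, mul_smul]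
      rw [smul_sub, sub_eq_zero] at h4
      exact h4.symm
    | succ t =>
      obtain ⟨v₂, hv₂⟩ := hb.2 t N (i₂ K g (t + 1) n ≫ u') h₃
      refine ⟨b • (q K g (t + 1) n ≫ v₁) - p₂ K g t n ≫ v₂, ?_⟩
      have h4 : b • u' = -((cone K g).d (t + 1) n ≫ p₂ K g t n ≫ v₂) := by
        rw [← Category.assoc, d_p₂, Preadditive.neg_comp, neg_neg, Category.assoc, hv₂, Linear.comp_smul, h₂]
      rw [Preadditive.comp_sub, Linear.comp_smul, key, mul_smul, sub_eq_add_neg, ← h4, smul_sub,
        add_sub_cancel]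

theorem cone_φ_comp_eq_zero (t : ℕ) {n m : ℕ} (h : n ≤ m) {N : C} (u : (cone K g).X (t + 1) n ⟶ N)
    (h1 : K.φ (t + 1) h ≫ i₁ K g (t + 1) n ≫ u = 0) (h2 : g ^ (m - n) • u = 0) :
    (cone K g).φ (t + 1) h ≫ u = 0 := by
  conv_lhs => rw [← Category.id_comp u, ← total K g t n, Preadditive.add_comp, Preadditive.comp_add]
  rw [Category.assoc (q K g (t + 1) n), ← Category.assoc ((cone K g).φ (t + 1) h), φ_q, Category.assoc, h1,
    comp_zero, zero_add, Category.assoc (p₂ K g t n), ← Category.assoc ((cone K g).φ (t + 1) h), φ_p₂,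
    Linear.smul_comp, ← Linear.comp_smul, ← Linear.comp_smul, h2, comp_zero, comp_zero]

variable [HasZeroObject C] (M : C)

theorem powI_le_radical_kill : ∀ (l : List A) (n : ℕ), powI l n ≤ (kill (A := A) (kos M l) n).radical
  | [], _ => bot_le
  | a :: l, n => by
    refine sup_le (fun x hx => ?_) ((Ideal.span_singleton_le_iff_mem _).2
      (Ideal.le_radical (pow_mem_kill_cone (kos M l) a n)))
    obtain ⟨k, hk⟩ := powI_le_radical_kill l n hx
    exact ⟨k + k, by rw [pow_add]; exact mul_mem_kill_cone (kos M l) a hk hk⟩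

theorem φ_comp_eq_zero : ∀ (l : List A) (t : ℕ) {n m : ℕ} (h : n ≤ m) {N : C}
    (u : (kos M l).X (t + 1) n ⟶ N), (∀ a ∈ l, a ^ (m - n) • u = 0) → (kos M l).φ (t + 1) h ≫ u = 0
  | [], _, _, _, _, _, u, _ => (isZero_zero C).eq_of_src _ _
  | a :: l, t, n, m, h, N, u, hu =>
    cone_φ_comp_eq_zero (kos M l) a t h u
      (φ_comp_eq_zero l t h _ fun b hb => by
        refine (Linear.comp_smul _ _ _ _ _ _).symm.trans ?_
        exact (congrArg (fun k => i₁ (kos M l) a (t + 1) n ≫ k) (hu b (List.mem_cons_of_mem a hb))).trans comp_zero)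
      (hu a List.mem_cons_self)

end Groth.Agent.KosPro27
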