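import Groth.Agent.KosPro27.Engine
import Groth.Agent.FormalLC27.Main
import Groth.Agent.LC16.LocH
import Groth.Agent.LC15.Basic

/-!
Local cohomology of localisations as a cohomological functor, and products of such functors.
-/

set_option autoImplicit false
set_option backward.isDefEq.respectTransparency.types false

universe u w

open CategoryTheory CategoryTheory.Limits

noncomputable section

namespace Groth.Agent.AlgSec27

open KosPro27 LC15

section Pi

variable {A : Type u} [CommRing A] {C : Type*} [Category C] [Abelian C] [Linear A C] {ι : Type u}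
  (T : ι → DeltaF.{u} A C)

/-- The product of functors. -/
def piFun (j : ℕ) : C ⥤ ModuleCat.{u} A where
  obj M := ModuleCat.of A (∀ p, ((T p).F j).obj M)
  map φ := ModuleCat.ofHom (LinearMap.pi fun p => (((T p).F j).map φ).hom ∘ₗ LinearMap.proj p)
  map_id M := ModuleCat.hom_ext (LinearMap.ext fun x => funext fun p => by
    show ((T p).F j).map (𝟙 M) (x p) = x p
    rw [((T p).F j).map_id]; rfl)
  map_comp φ ψ := ModuleCat.hom_ext (LinearMap.ext fun x => funext fun p => by
    show ((T p).F j).map (φ ≫ ψ) (x p) = ((T p).F j).map ψ (((T p).F j).map φ (x p))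
    rw [((T p).F j).map_comp]; rfl)

instance additive_piFun (j : ℕ) : (piFun T j).Additive where
  map_add {M N φ ψ} := ModuleCat.hom_ext (LinearMap.ext fun x => funext fun p => by
    haveI := (T p).additive j
    show ((T p).F j).map (φ + ψ) (x p) = ((T p).F j).map φ (x p) + ((T p).F j).map ψ (x p)
    rw [((T p).F j).map_add]; rfl)

theorem linear_piFun (j : ℕ) : Functor.Linear A (piFun T j) where
  map_smul {M N} φ a := ModuleCat.hom_ext (LinearMap.ext fun x => funext fun p => by
    haveI := (T p).additive j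
    haveI := (T p).linear j
    show ((T p).F j).map (a • φ) (x p) = a • ((T p).F j).map φ (x p)
    rw [((T p).F j).map_smul]; rfl)

/-- The product of cohomological functors. -/
def piDelta : DeltaF.{u} A C where
  F := piFun T
  additive := additive_piFun T
  linear := linear_piFun T
  δ hS j := LinearMap.pi fun p => (T p).δ hS j ∘ₗ LinearMap.proj p
  δ_natural hS hT ψ j x := funext fun p => (T p).δ_natural hS hT ψ j (x p)
  exact₂ hS j x hx := by
    choose y hy using fun p => (T p).exact₂ hS j (x p) (congrFun hx p)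
    exact ⟨y, funext hy⟩
  exact₃ hS j x hx := by
    choose y hy using fun p => (T p).exact₃ hS j (x p) (congrFun hx p)
    exact ⟨y, funext hy⟩
  f_δ hS j x := funext fun p => (T p).f_δ hS j (x p)

end Pi

section Natural

variable {R : Type u} [CommRing R] (I : Ideal R) {M N L M' N' L' : Type u} [AddCommGroup M] [Module R M]
  [AddCommGroup N] [Module R N] [AddCommGroup L] [Module R L] [AddCommGroup M'] [Module R M'] [AddCommGroup N']
  [Module R N'] [AddCommGroup L'] [Module R L'] {f : M →ₗ[R] N} {g : N →ₗ[R] L} {f' : M' →ₗ[R] N'}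
  {g' : N' →ₗ[R] L'}

/-- The connecting map is natural. -/
theorem Hδ_natural (hf : Function.Injective f) (hfg : Function.Exact f g) (hg : Function.Surjective g)
    (hf' : Function.Injective f') (hfg' : Function.Exact f' g') (hg' : Function.Surjective g')
    (a : M →ₗ[R] M') (b : N →ₗ[R] N') (c : L →ₗ[R] L') (hab : b ∘ₗ f = f' ∘ₗ a) (hbc : c ∘ₗ g = g' ∘ₗ b)
    (i : ℕ) (z : LocCoh.H I i L) :
    Hδ I i hf' hfg' hg' (Hmap I i c z) = Hmap I (i + 1) a (Hδ I i hf hfg hg z) := by
  obtain ⟨n, x, rfl⟩ := toH_surj I i L z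
  rw [Hmap_toH, Hδ_toH, Hδ_toH, Hmap_toH]
  let ψ : seqSC hfg ⟶ seqSC hfg' :=
    { τ₁ := ModuleCat.ofHom a, τ₂ := ModuleCat.ofHom b, τ₃ := ModuleCat.ofHom c
      comm₁₂ := ModuleCat.hom_ext hab.symm
      comm₂₃ := ModuleCat.hom_ext hbc.symm }
  exact congrArg (toH I (i + 1) M' n)
    (FormalLC27.gδ_natural (seqSC_shortExact hf hfg hg) (seqSC_shortExact hf' hfg' hg') ψ i x)

end Natural

section Loc

variable {A : Type u} [CommRing A] (q : PrimeSpectrum A)

/-- The local ring. -/
abbrev Aq : Type u := Localization.AtPrime q.asIdeal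

/-- Local cohomology of the localisation. -/
def LH (j : ℕ) (M : Type u) [AddCommGroup M] [Module A M] : Type u :=
  LocCoh.H (IsLocalRing.maximalIdeal (Aq q)) j (LocalizedModule q.asIdeal.primeCompl M)

instance instAddCommGroupLH (j : ℕ) (M : Type u) [AddCommGroup M] [Module A M] : AddCommGroup (LH q j M) :=
  inferInstanceAs (AddCommGroup (LocCoh.H (IsLocalRing.maximalIdeal (Aq q)) j
    (LocalizedModule q.asIdeal.primeCompl M)))

instance instModuleAqLH (j : ℕ) (M : Type u) [AddCommGroup M] [Module A M] : Module (Aq q) (LH q j M) :=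
  inferInstanceAs (Module (Aq q) (LocCoh.H (IsLocalRing.maximalIdeal (Aq q)) j
    (LocalizedModule q.asIdeal.primeCompl M)))

instance instModuleLH (j : ℕ) (M : Type u) [AddCommGroup M] [Module A M] : Module A (LH q j M) :=
  Module.compHom _ (algebraMap A (Aq q))

variable {M N L : Type u} [AddCommGroup M] [Module A M] [AddCommGroup N] [Module A N] [AddCommGroup L]
  [Module A L]

theorem smul_LH (j : ℕ) (a : A) (x : LH q j M) : a • x = algebraMap A (Aq q) a • x := rfl

/-- Functoriality. -/
def lmapH (j : ℕ) (f : M →ₗ[A] N) : LH q j M →ₗ[A] LH q j N where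
  toFun := Hmap (IsLocalRing.maximalIdeal (Aq q)) j (LocalizedModule.map q.asIdeal.primeCompl f)
  map_add' x y := map_add (Hmap (IsLocalRing.maximalIdeal (Aq q)) j (LocalizedModule.map q.asIdeal.primeCompl f)) x y
  map_smul' a x := map_smul (Hmap (IsLocalRing.maximalIdeal (Aq q)) j (LocalizedModule.map q.asIdeal.primeCompl f))
    (algebraMap A (Aq q) a) x

theorem map_comp_loc (g : N →ₗ[A] L) (f : M →ₗ[A] N) :
    LocalizedModule.map q.asIdeal.primeCompl (g ∘ₗ f) =
      LocalizedModule.map q.asIdeal.primeCompl g ∘ₗ LocalizedModule.map q.asIdeal.primeCompl f := by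
  refine LinearMap.ext fun z => ?_
  induction z using LocalizedModule.induction_on with
  | h m s => simp only [LinearMap.comp_apply, LocalizedModule.map_mk]

theorem lmapH_comp (j : ℕ) (g : N →ₗ[A] L) (f : M →ₗ[A] N) (x : LH q j M) :
    lmapH q j (g ∘ₗ f) x = lmapH q j g (lmapH q j f x) := by
  show Hmap _ j (LocalizedModule.map q.asIdeal.primeCompl (g ∘ₗ f)) x =
    Hmap _ j (LocalizedModule.map q.asIdeal.primeCompl g) (Hmap _ j (LocalizedModule.map q.asIdeal.primeCompl f) x)
  rw [map_comp_loc, Hmap_comp]; rfl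

theorem lmapH_id (j : ℕ) (x : LH q j M) : lmapH q j (LinearMap.id : M →ₗ[A] M) x = x := by
  show Hmap _ j (LocalizedModule.map q.asIdeal.primeCompl LinearMap.id) x = x
  have e : LocalizedModule.map q.asIdeal.primeCompl (LinearMap.id : M →ₗ[A] M) = LinearMap.id :=
    LinearMap.ext fun z => by
      induction z using LocalizedModule.induction_on with
      | h m s => exact LocalizedModule.map_mk (S := q.asIdeal.primeCompl) LinearMap.id m s
  rw [e, Hmap_id]; rfl

/-- Local cohomology at `q` as a functor. -/
def locFun (j : ℕ) : ModuleCat.{u} A ⥤ ModuleCat.{u} A where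
  obj M := ModuleCat.of A (LH q j M)
  map φ := ModuleCat.ofHom (lmapH q j φ.hom)
  map_id M := ModuleCat.hom_ext (LinearMap.ext fun x => lmapH_id q j x)
  map_comp φ ψ := ModuleCat.hom_ext (LinearMap.ext fun x => lmapH_comp q j ψ.hom φ.hom x)

instance additive_locFun (j : ℕ) : (locFun q j).Additive where
  map_add {M N φ ψ} := ModuleCat.hom_ext (LinearMap.ext fun x => by
    show Hmap _ j (LocalizedModule.map q.asIdeal.primeCompl (φ.hom + ψ.hom)) x = _
    rw [map_add, Hmap_add]; rfl)

theorem map_smul_loc (a : A) (f : M →ₗ[A] N) :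
    LocalizedModule.map q.asIdeal.primeCompl (a • f) =
      algebraMap A (Aq q) a • LocalizedModule.map q.asIdeal.primeCompl f := by
  refine LinearMap.ext fun z => ?_
  induction z using LocalizedModule.induction_on with
  | h m s =>
    rw [LinearMap.smul_apply, LocalizedModule.map_mk, LocalizedModule.map_mk, algebraMap_smul,
      LocalizedModule.smul'_mk, LinearMap.smul_apply]

theorem linear_locFun (j : ℕ) : Functor.Linear A (locFun q j) where
  map_smul {M N} φ a := ModuleCat.hom_ext (LinearMap.ext fun x => by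
    show Hmap _ j (LocalizedModule.map q.asIdeal.primeCompl (a • φ.hom)) x =
      algebraMap A (Aq q) a • Hmap _ j (LocalizedModule.map q.asIdeal.primeCompl φ.hom) x
    rw [map_smul_loc, Hmap_smul]; rfl)

section SES

variable {S : ShortComplex (ModuleCat.{u} A)} (hS : S.ShortExact)
include hS

theorem loc_inj : Function.Injective (LocalizedModule.map q.asIdeal.primeCompl S.f.hom) :=
  LocalizedModule.map_injective _ _ hS.moduleCat_injective_f

theorem loc_exact : Function.Exact (LocalizedModule.map q.asIdeal.primeCompl S.f.hom)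
    (LocalizedModule.map q.asIdeal.primeCompl S.g.hom) :=
  LocalizedModule.map_exact _ _ _ ((ShortComplex.ShortExact.moduleCat_exact_iff_function_exact S).1 hS.exact)

theorem loc_surj : Function.Surjective (LocalizedModule.map q.asIdeal.primeCompl S.g.hom) :=
  LocalizedModule.map_surjective _ _ hS.moduleCat_surjective_g

/-- The connecting map. -/
def locδ (j : ℕ) : LH q j S.X₃ →ₗ[A] LH q (j + 1) S.X₁ where
  toFun := Hδ (IsLocalRing.maximalIdeal (Aq q)) j (loc_inj q hS) (loc_exact q hS) (loc_surj q hS)
  map_add' x y := map_add (Hδ (IsLocalRing.maximalIdeal (Aq q)) j (loc_inj q hS) (loc_exact q hS) (loc_surj q hS)) x y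
  map_smul' a x := map_smul (Hδ (IsLocalRing.maximalIdeal (Aq q)) j (loc_inj q hS) (loc_exact q hS) (loc_surj q hS))
    (algebraMap A (Aq q) a) x

end SES

/-- Local cohomology at `q` as a cohomological functor. -/
def locDelta : DeltaF.{u} A (ModuleCat.{u} A) where
  F := locFun q
  additive := additive_locFun q
  linear := linear_locFun q
  δ hS j := locδ q hS j
  δ_natural {S S'} hS hT ψ j x := Hδ_natural _ (loc_inj q hS) (loc_exact q hS) (loc_surj q hS) (loc_inj q hT)
    (loc_exact q hT) (loc_surj q hT) (LocalizedModule.map _ ψ.τ₁.hom) (LocalizedModule.map _ ψ.τ₂.hom)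
    (LocalizedModule.map _ ψ.τ₃.hom)
    (by rw [← map_comp_loc, ← map_comp_loc, ← ModuleCat.hom_comp, ← ψ.comm₁₂, ModuleCat.hom_comp])
    (by rw [← map_comp_loc, ← map_comp_loc, ← ModuleCat.hom_comp, ← ψ.comm₂₃, ModuleCat.hom_comp]) j x
  exact₂ {S} hS j x hx := (H_exact₂ _ j (loc_inj q hS) (loc_exact q hS) (loc_surj q hS) x).1 hx
  exact₃ {S} hS j x hx := (H_exact₃ _ j (loc_inj q hS) (loc_exact q hS) (loc_surj q hS) x).1 hx
  f_δ {S} hS j x := (H_exact₁ _ j (loc_inj q hS) (loc_exact q hS) (loc_surj q hS) _).2 ⟨x, rfl⟩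

end Loc

end Groth.Agent.AlgSec27
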