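import Groth.Agent.AlgSec27.Uniform
import Groth.Agent.AlgSec27.CdDies
import Groth.Agent.AlgSec27.Local
import Groth.Agent.LC16.DimBetween
import Groth.Agent.LC16.DualKill

/-!
Pro-vanishing of the Koszul homology of local cohomology at the points of one level.
-/

set_option autoImplicit false
set_option backward.isDefEq.respectTransparency.types false

universe u

open CategoryTheory CategoryTheory.Limits

attribute [local instance] HasDerivedCategory.standard

noncomputable section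

namespace Groth.Agent.AlgSec27

open KosPro27 LC15 LC16

variable {A : Type u} [CommRing A] [IsNoetherianRing A]

theorem exists_avoiding (μ : PrimeSpectrum A → ℤ) (hμ : ∀ p q : PrimeSpectrum A, p < q → μ p < μ q)
    (I : Ideal A) (Sig : PrimeSpectrum A → Prop) (hI : ∀ p, Sig p → ¬ I ≤ p.asIdeal)
    (hdown : ∀ p q : PrimeSpectrum A, p ≤ q → Sig q → Sig p) (c : ℤ) (hc : ∀ p, Sig p → μ p < c) :
    ∀ (L : ℕ) (J : Ideal A), (∀ p, Sig p → J ≤ p.asIdeal → c ≤ μ p + L) →
      ∃ gs : List A, gs.length ≤ L ∧ (∀ g ∈ gs, g ∈ I) ∧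
        ∀ p, Sig p → ¬ J ⊔ Ideal.span {g | g ∈ gs} ≤ p.asIdeal
  | 0, J, h => ⟨[], le_rfl, fun _ hg => (List.not_mem_nil hg).elim, fun p hp hle => by
      have := h p hp (le_sup_left.trans hle)
      have := hc p hp
      omega⟩
  | L + 1, J, h => by
    classical
    let S := J.finite_minimalPrimes_of_isNoetherianRing.toFinset.filter fun Q => ∃ hQ : Q.IsPrime, Sig ⟨Q, hQ⟩
    obtain ⟨g, hgI, hg⟩ : ∃ g ∈ I, ∀ Q ∈ S, g ∉ Q := by
      by_contra hne
      push Not at hne
      obtain ⟨Q, hQ, hle⟩ := (Ideal.subset_union_prime (R := A) (s := S) (f := id) ⊥ ⊥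
        (fun Q hQ _ _ => (Finset.mem_filter.1 hQ).2.choose)).1 fun g hg => by
          obtain ⟨Q, hQ, hgQ⟩ := hne g hg
          exact Set.mem_iUnion₂.2 ⟨Q, hQ, hgQ⟩
      obtain ⟨hQp, hQS⟩ := (Finset.mem_filter.1 hQ).2
      exact hI _ hQS hle
    obtain ⟨gs, hlen, hgs, hav⟩ := exists_avoiding μ hμ I Sig hI hdown c hc L (J ⊔ Ideal.span {g}) fun p hp hle => by
      obtain ⟨Q, hQ, hQp⟩ := Ideal.exists_minimalPrimes_le (le_sup_left.trans hle)
      have hQS : Sig ⟨Q, hQ.1.1⟩ := hdown _ p hQp hp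
      have hlt : (⟨Q, hQ.1.1⟩ : PrimeSpectrum A) < p := lt_of_le_of_ne hQp fun heq =>
        hg Q (Finset.mem_filter.2 ⟨(Set.Finite.mem_toFinset _).2 hQ, hQ.1.1, hQS⟩) (by
          rw [show Q = p.asIdeal from congrArg PrimeSpectrum.asIdeal heq]
          exact hle (Ideal.mem_sup_right (Ideal.mem_span_singleton_self g)))
      have h1 := h _ hQS hQ.1.2
      have h2 := hμ _ _ hlt
      push_cast at h1
      omega
    refine ⟨g :: gs, by simp; omega, fun x hx => ?_, fun p hp hle => hav p hp (le_trans ?_ hle)⟩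
    · rcases List.mem_cons.1 hx with rfl | hx
      exacts [hgI, hgs x hx]
    · refine sup_le (sup_le le_sup_left ((Ideal.span_singleton_le_iff_mem _).2
        (Ideal.mem_sup_right (Ideal.subset_span List.mem_cons_self)))) ?_
      exact (Ideal.span_mono fun x hx => List.mem_cons_of_mem g hx).trans le_sup_right

omit [IsNoetherianRing A] in
theorem bijective_smul_LH (q : PrimeSpectrum A) (j : ℕ) (K : Type u) [AddCommGroup K] [Module A K] {s : A}
    (hs : s ∉ q.asIdeal) : Function.Bijective fun x : LH q j K => s • x := by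
  obtain ⟨v, hv⟩ := IsLocalization.map_units (Aq q) (⟨s, hs⟩ : q.asIdeal.primeCompl)
  refine ⟨fun x y h => ?_, fun y => ⟨((v⁻¹ : (Aq q)ˣ) : Aq q) • y, ?_⟩⟩
  · have h' : (v : Aq q) • x = (v : Aq q) • y := by rw [hv]; exact h
    exact v.isUnit.smul_left_cancel.1 h'
  · show algebraMap A (Aq q) s • _ = y
    rw [smul_smul, show algebraMap A (Aq q) s = (v : Aq q) from hv.symm, Units.mul_inv, one_smul]

/-- The ideal killing local cohomology at the points of level `c`. -/
def killJ (ω : Dual.D A) (K : Type u) [AddCommGroup K] [Module A K] (c : ℤ) (i : ℕ) : Ideal A :=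
  (∏ j ∈ Finset.range (i + 1), LC17.gAnn ω (ModuleCat.of A K) (c - j)) ^ 2 ^ i

variable {ω : Dual.D A} (hω : Dual.IsDualizing A ω)
include hω

omit [IsNoetherianRing A] in
theorem smul_LH_eq_zero [IsNoetherianRing A] (K : Type u) [AddCommGroup K] [Module A K] [Module.Finite A K]
    (q : PrimeSpectrum A) (i : ℕ) {a : A} (ha : a ∈ killJ ω K (DualAnn.mu hω q) i) (x : LH q i K) :
    a • x = 0 := by
  let B := Localization.AtPrime q.asIdeal
  haveI : IsNoetherianRing B := IsLocalization.isNoetherianRing q.asIdeal.primeCompl _ inferInstance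
  haveI : Module.Finite B (LocalizedModule q.asIdeal.primeCompl K) :=
    Module.Finite.of_isLocalizedModule q.asIdeal.primeCompl (LocalizedModule.mkLinearMap _ K)
  rw [smul_LH]
  refine DualKill.smul_H_eq_zero (DualAnn.isDualizing_omegaAt hω q) (DualAnn.isNormalized_omegaAt hω q) i
    (LocalizedModule q.asIdeal.primeCompl K) (algebraMap A B a) ?_ x
  have h := Ideal.mem_map_of_mem (algebraMap A B) ha
  rw [killJ, Ideal.map_pow] at h
  refine Ideal.pow_right_mono (le_trans (le_of_eq (map_prod (Ideal.mapHom (algebraMap A B)) _ _))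
    (Finset.prod_le_prod' fun j _ => ?_)) _ h
  have h1 := DualAnn.map_gAnn_le hω K (DualAnn.mu hω q - (j : ℤ)) q
  rwa [show DualAnn.mu hω q - (j : ℤ) - DualAnn.mu hω q = -(j : ℤ) by omega] at h1

/-- The hypotheses on the module. -/
structure GoodMod (P : PrimeSpectrum A) (K : Type u) [AddCommGroup K] [Module A K] : Prop where
  finite : Module.Finite A K
  kill : ∀ a ∈ P.asIdeal, ∀ k : K, a • k = 0
  depth_one : ∀ p : PrimeSpectrum A, P ≤ p → DualAnn.mu hω P < DualAnn.mu hω p →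
    1 ≤ LocCoh.depth (Localization.AtPrime p.asIdeal) (LocalizedModule p.asIdeal.primeCompl K)
  depth_two : ∀ p : PrimeSpectrum A, P ≤ p → DualAnn.mu hω P + 2 ≤ DualAnn.mu hω p →
    2 ≤ LocCoh.depth (Localization.AtPrime p.asIdeal) (LocalizedModule p.asIdeal.primeCompl K)

variable {P : PrimeSpectrum A} {K : Type u} [AddCommGroup K] [Module A K] (hK : GoodMod hω P K)
  {𝔞 I : Ideal A} (hI : I ≤ 𝔞) {d : ℕ}
  (hdim : ∀ q : PrimeSpectrum A, P ≤ q → 𝔞 ≤ q.asIdeal →
    ((d + 1 : ℕ) : WithBot ℕ∞) < Formal2.dimBetween A P.asIdeal q.asIdeal)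
include hK hdim

theorem two_add_le {q : PrimeSpectrum A} (hPq : P ≤ q) (hq : 𝔞 ≤ q.asIdeal) :
    DualAnn.mu hω P + (d + 2 : ℕ) ≤ DualAnn.mu hω q := by
  have h1 := (hdim q hPq hq).trans_le (DimBetween.dimBetween_le P q hω hPq)
  have h2 : d + 1 < (DualAnn.mu hω q - DualAnn.mu hω P).toNat := by
    rw [show ((d + 1 : ℕ) : WithBot ℕ∞) = (((d + 1 : ℕ) : ℕ∞) : WithBot ℕ∞) from rfl, WithBot.coe_lt_coe] at h1
    exact_mod_cast h1
  omega

theorem subsingleton_LH {i : ℕ} (hi : i ≤ 1) (q : PrimeSpectrum A) (hq : 𝔞 ≤ q.asIdeal) :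
    Subsingleton (LH q i K) := by
  haveI := hK.finite
  let B := Localization.AtPrime q.asIdeal
  haveI : Module.Finite B (LocalizedModule q.asIdeal.primeCompl K) :=
    Module.Finite.of_isLocalizedModule q.asIdeal.primeCompl (LocalizedModule.mkLinearMap _ K)
  by_cases hPq : P ≤ q
  · haveI : IsNoetherianRing B := IsLocalization.isNoetherianRing q.asIdeal.primeCompl _ inferInstance
    have h := hK.depth_two q hPq (by have := two_add_le hω hK hdim hPq hq; omega)
    exact (LC17.natCast_le_idealDepth_iff (IsLocalRing.maximalIdeal B) (LocalizedModule q.asIdeal.primeCompl K) 2).1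
      h i (by omega)
  · obtain ⟨a, haP, haq⟩ := SetLike.not_le_iff_exists.1 (show ¬ P.asIdeal ≤ q.asIdeal from hPq)
    haveI : Subsingleton (LocalizedModule q.asIdeal.primeCompl K) := LocalizedModule.subsingleton_iff.2 fun k =>
      ⟨a, haq, hK.kill a haP k⟩
    exact subsingleton_H_of_subsingleton (IsLocalRing.maximalIdeal B) i

include hI

theorem hPro_level {l : List A} (hl : I = Ideal.span {g | g ∈ l}) (hd : LocCoh.CdLE A I d) {i : ℕ} (hi : i ≤ 1) (c : ℤ) (t : ℕ) :
    HPro ((piDelta fun q : {q : PrimeSpectrum A // 𝔞 ≤ q.asIdeal ∧ DualAnn.mu hω q = c} => locDelta q.1).F (i + 1 + t))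
      (kos (ModuleCat.of A K) l) t := by
  classical
  haveI := hK.finite
  intro n
  obtain ⟨S, J₀, hd', hS⟩ : ∃ (S : Finset A) (J₀ : Ideal A),
      (∀ s ∈ S, ∀ (N : Type u) [AddCommGroup N] [Module A N],
        (∀ a ∈ J₀, ∀ x : N, a • x = 0) → Dies l s t (ModuleCat.of A N)) ∧
      ∀ q : {q : PrimeSpectrum A // 𝔞 ≤ q.asIdeal ∧ DualAnn.mu hω q = c},
        (∀ a ∈ J₀, ∀ x : LH q.1 (i + 1 + t) K, a • x = 0) ∧
          ∃ s ∈ S, Function.Bijective fun x : LH q.1 (i + 1 + t) K => s • x := by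
    by_cases ht : d ≤ t
    · refine ⟨{1}, ⊥, fun s hs N _ _ _ => ?_, fun q => ⟨fun a ha x => ?_, 1, Finset.mem_singleton_self 1, ?_⟩⟩
      · rw [Finset.mem_singleton.1 hs]
        exact dies_of_cdLE hl hd t ht N
      · rw [(Submodule.mem_bot A).1 ha, zero_smul]
      · simp only [one_smul]
        exact Function.bijective_id
    let Sig : PrimeSpectrum A → Prop := fun p => ¬ I ≤ p.asIdeal ∧
      ∃ q : PrimeSpectrum A, 𝔞 ≤ q.asIdeal ∧ DualAnn.mu hω q = c ∧ p < q
    let J₀ := killJ ω K c (i + 1 + t)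
    obtain ⟨gs, hlen, hgs, hav⟩ := exists_avoiding (DualAnn.mu hω) (fun _ _ h => DualAnn.mu_lt hω h) I Sig
      (fun p hp => hp.1) (fun p q hpq hq => ⟨fun h => hq.1 (h.trans hpq), hq.2.elim fun r hr =>
        ⟨r, hr.1, hr.2.1, lt_of_le_of_lt hpq hr.2.2⟩⟩) c
      (fun p hp => by
        obtain ⟨q, -, hq, hpq⟩ := hp.2
        exact hq ▸ DualAnn.mu_lt hω hpq) t J₀ (fun p hp hle => by
        obtain ⟨j, hj, hle⟩ := (p.isPrime.prod_le).1 (p.isPrime.le_of_pow_le hle)
        rw [Finset.mem_range] at hj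
        obtain ⟨k, hk, hkle⟩ := DualAnn.exists_depth_le hω K hle
        have hPp : P ≤ p := fun a ha => hle ((LC17.mem_gAnn ω).2 fun f => by
          have h0 : a • 𝟙 (ModuleCat.of A K) = 0 :=
            ModuleCat.hom_ext (LinearMap.ext fun x => hK.kill a ha x)
          rw [← LC17.pre_smul_id ω a _ f, h0]
          show (DerivedCategory.singleFunctor (ModuleCat.{u} A) 0).map 0 ≫ f = 0
          rw [Functor.map_zero, zero_comp])
        obtain ⟨q, hqa, hqc, hpq⟩ := hp.2
        have hq2 := two_add_le hω hK hdim (hPp.trans hpq.le) hqa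
        have hmono := DualAnn.mu_mono hω hPp
        rcases le_or_gt (DualAnn.mu hω P + 2) (DualAnn.mu hω p) with h2 | h2
        · have h3 := hK.depth_two p hPp h2
          rw [hk] at h3
          have h4 : 2 ≤ k := by exact_mod_cast h3
          omega
        · rcases eq_or_lt_of_le hmono with h1 | h1
          · omega
          · have h3 := hK.depth_one p hPp h1
            rw [hk] at h3
            have h4 : 1 ≤ k := by exact_mod_cast h3
            omega)
    let J := J₀ ⊔ Ideal.span {g | g ∈ gs}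
    let Qs := J.finite_minimalPrimes_of_isNoetherianRing.toFinset.filter fun Q => ¬ I ≤ Q
    obtain ⟨S, hS⟩ := (IsNoetherian.noetherian (∏ Q ∈ Qs, Q) : (∏ Q ∈ Qs, Q).FG)
    refine ⟨S, J₀, fun s hs N _ _ hN => ?_, fun q => ⟨fun a ha x => smul_LH_eq_zero hω K q.1 (i + 1 + t) ?_ x, ?_⟩⟩
    · refine dies (fun n => ?_) gs J₀ t hlen (fun g hg => hl ▸ hgs g hg) (fun g hg => ?_) N fun x =>
        ⟨1, fun a ha => hN a (by rwa [pow_one] at ha) x⟩
      · exact Ideal.span_le.2 fun g hg => ⟨n + 1, mem_powI l n g hg⟩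
      · rw [← Ideal.sInf_minimalPrimes, Ideal.mem_sInf]
        intro Q hQ
        by_cases hIQ : I ≤ Q
        · exact Ideal.mul_mem_left _ _ (hIQ (hl ▸ Ideal.subset_span hg))
        · refine Ideal.mul_mem_right _ _ ?_
          have h1 : s ∈ ∏ Q ∈ Qs, Q := hS ▸ Submodule.subset_span hs
          exact Ideal.le_of_dvd (Finset.dvd_prod_of_mem _ (Finset.mem_filter.2
            ⟨(Set.Finite.mem_toFinset _).2 hQ, hIQ⟩)) h1
    · rw [q.2.2]; exact ha
    · obtain ⟨s, hs, hsq⟩ : ∃ s ∈ S, s ∉ q.1.asIdeal := by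
        by_contra hne
        push Not at hne
        have hle : (∏ Q ∈ Qs, Q) ≤ q.1.asIdeal := hS ▸ Submodule.span_le.2 hne
        obtain ⟨Q, hQ, hQq⟩ := (q.1.isPrime.prod_le).1 hle
        obtain ⟨hQm, hQI⟩ := Finset.mem_filter.1 hQ
        have hQm' := (Set.Finite.mem_toFinset _).1 hQm
        refine hav ⟨Q, hQm'.1.1⟩ ⟨hQI, q.1, q.2.1, q.2.2, lt_of_le_of_ne hQq fun heq => hQI ?_⟩ hQm'.1.2
        rw [show Q = q.1.asIdeal from congrArg PrimeSpectrum.asIdeal heq]
        exact hI.trans q.2.1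
      exact ⟨s, hs, bijective_smul_LH q.1 (i + 1 + t) K hsq⟩
  obtain ⟨m, hm, hm'⟩ := uniform S J₀ t hd' n
  refine ⟨m, hm, fun w hw => ?_⟩
  have hex : ∀ q : {q : PrimeSpectrum A // 𝔞 ≤ q.asIdeal ∧ DualAnn.mu hω q = c},
      ∃ u, (locFun q.1 (i + 1 + t)).map ((kos (ModuleCat.of A K) l).d (t + 1) n) u =
        (locFun q.1 (i + 1 + t)).map ((kos (ModuleCat.of A K) l).φ (t + 1) hm) (w q) := fun q =>
    haveI := linear_locFun q.1 (i + 1 + t)
    exists_boundary_map (locFun q.1 (i + 1 + t)) (ModuleCat.of A K) hm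
      (hm' (LH q.1 (i + 1 + t) K) (hS q).1 (hS q).2) (w q) (congrFun hw q)
  choose u hu using hex
  exact ⟨u, funext hu⟩

end Groth.Agent.AlgSec27
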