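import Groth.Agent.KosPro27.Hom
import Mathlib.CategoryTheory.Preadditive.AdditiveFunctor
import Mathlib.CategoryTheory.Limits.Preserves.Shapes.Zero

/-!
Linear functors commute with Koszul towers.
-/

set_option autoImplicit false
set_option backward.isDefEq.respectTransparency.types false

universe w v u v' u'

open CategoryTheory CategoryTheory.Limits

noncomputable section

namespace Groth.Agent.KosPro27

variable {A : Type w} [CommRing A] {C : Type u} [Category.{v} C] [Preadditive C] [Linear A C]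
  [HasBinaryBiproducts C] {D : Type u'} [Category.{v'} D] [Preadditive D] [Linear A D]
  [HasBinaryBiproducts D] (Φ : C ⥤ D) [Φ.Additive] [Functor.Linear A Φ]

/-- An isomorphism between the image of a tower and a tower. -/
structure MapIso (K : Cx C) (L : Cx D) where
  /-- the components -/
  e : ∀ t n, Φ.obj (K.X t n) ≅ L.X t n
  φ_e : ∀ t {n m : ℕ} (h : n ≤ m), (e t m).hom ≫ L.φ t h = Φ.map (K.φ t h) ≫ (e t n).hom
  d_e : ∀ t n, (e (t + 1) n).hom ≫ L.d t n = Φ.map (K.d t n) ≫ (e t n).hom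

variable {Φ} {K : Cx C} {L : Cx D} (P : MapIso Φ K L) (g : A)

/-- The components on cones. -/
def coneE : ∀ t n, Φ.obj ((cone K g).X t n) ≅ (cone L g).X t n
  | 0, n => P.e 0 n
  | t + 1, n =>
    haveI := preservesBinaryBiproducts_of_preservesBiproducts Φ
    Φ.mapBiprod (K.X (t + 1) n) (K.X t n) ≪≫ biprod.mapIso (P.e (t + 1) n) (P.e t n)

theorem coneE_q : ∀ t n, (coneE P g t n).hom ≫ q L g t n = Φ.map (q K g t n) ≫ (P.e t n).hom
  | 0, n => by
    show (P.e 0 n).hom ≫ 𝟙 _ = Φ.map (𝟙 (K.X 0 n)) ≫ (P.e 0 n).hom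
    rw [Category.comp_id, Φ.map_id, Category.id_comp]
  | t + 1, n => by
    haveI := preservesBinaryBiproducts_of_preservesBiproducts Φ
    show ((Φ.mapBiprod (K.X (t + 1) n) (K.X t n)).hom ≫ biprod.map (P.e (t + 1) n).hom (P.e t n).hom) ≫ biprod.fst =
      Φ.map biprod.fst ≫ (P.e (t + 1) n).hom
    rw [Category.assoc, biprod.map_fst, Functor.mapBiprod_hom, biprod.lift_fst_assoc]

theorem coneE_p₂ (t n : ℕ) : (coneE P g (t + 1) n).hom ≫ p₂ L g t n = Φ.map (p₂ K g t n) ≫ (P.e t n).hom := by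
  haveI := preservesBinaryBiproducts_of_preservesBiproducts Φ
  show ((Φ.mapBiprod (K.X (t + 1) n) (K.X t n)).hom ≫ biprod.map (P.e (t + 1) n).hom (P.e t n).hom) ≫ biprod.snd =
    Φ.map biprod.snd ≫ (P.e t n).hom
  rw [Category.assoc, biprod.map_snd, Functor.mapBiprod_hom, biprod.lift_snd_assoc]

omit Φ [Φ.Additive] [Functor.Linear A Φ] P in
theorem cone_hom_ext {X : D} (t n : ℕ) {f f' : X ⟶ (cone L g).X (t + 1) n}
    (h₁ : f ≫ q L g (t + 1) n = f' ≫ q L g (t + 1) n) (h₂ : f ≫ p₂ L g t n = f' ≫ p₂ L g t n) : f = f' :=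
  biprod.hom_ext _ _ h₁ h₂

omit Φ [Φ.Additive] [Functor.Linear A Φ] P in
theorem cone_hom_ext₀ {X : D} (n : ℕ) {f f' : X ⟶ (cone L g).X 0 n}
    (h₁ : f ≫ q L g 0 n = f' ≫ q L g 0 n) : f = f' := by
  have e : ∀ k : X ⟶ (cone L g).X 0 n, k ≫ q L g 0 n = k := fun k => Category.comp_id k
  rwa [e, e] at h₁

/-- The cone of an isomorphism. -/
def MapIso.cone : MapIso Φ (Groth.Agent.KosPro27.cone K g) (Groth.Agent.KosPro27.cone L g) where
  e := coneE P g
  φ_e := by
    intro t n m h
    have key : ((coneE P g t m).hom ≫ (Groth.Agent.KosPro27.cone L g).φ t h) ≫ q L g t n =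
        (Φ.map ((Groth.Agent.KosPro27.cone K g).φ t h) ≫ (coneE P g t n).hom) ≫ q L g t n := by
      rw [Category.assoc, Category.assoc, φ_q, reassoc_of% (coneE_q P g t m), P.φ_e, coneE_q, ← Φ.map_comp_assoc,
        ← Φ.map_comp_assoc, φ_q]
    cases t with
    | zero => exact cone_hom_ext₀ g n key
    | succ t =>
      refine cone_hom_ext g t n key ?_
      rw [Category.assoc, Category.assoc, φ_p₂, Linear.comp_smul, reassoc_of% (coneE_p₂ P g t m), P.φ_e,
        coneE_p₂, ← Φ.map_comp_assoc, ← Φ.map_comp_assoc, φ_p₂, Functor.map_smul, Linear.smul_comp]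
  d_e := by
    intro t n
    have key : ((coneE P g (t + 1) n).hom ≫ (Groth.Agent.KosPro27.cone L g).d t n) ≫ q L g t n =
        (Φ.map ((Groth.Agent.KosPro27.cone K g).d t n) ≫ (coneE P g t n).hom) ≫ q L g t n := by
      rw [Category.assoc, Category.assoc, d_q, Preadditive.comp_add, Linear.comp_smul,
        reassoc_of% (coneE_q P g (t + 1) n), coneE_p₂, P.d_e, coneE_q, ← Φ.map_comp_assoc, ← Φ.map_comp_assoc,
        d_q, Φ.map_add, Functor.map_smul, Preadditive.add_comp, Linear.smul_comp]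
    cases t with
    | zero => exact cone_hom_ext₀ g n key
    | succ t =>
      refine cone_hom_ext g t n key ?_
      rw [Category.assoc, Category.assoc, d_p₂, Preadditive.comp_neg, reassoc_of% (coneE_p₂ P g (t + 1) n), P.d_e,
        coneE_p₂, ← Φ.map_comp_assoc, ← Φ.map_comp_assoc, d_p₂, Φ.map_neg, Preadditive.neg_comp]

variable [HasZeroObject C] [HasZeroObject D] (Φ) {M : C} {M' : D} (e₀ : Φ.obj M ≅ M')

open scoped ZeroObject in
/-- The components on constant towers. -/
def constE : ∀ t, Φ.obj (constX M t) ≅ constX M' t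
  | 0 => e₀
  | _ + 1 => (Φ.map_isZero (isZero_zero C)).isoZero

/-- Linear functors commute with Koszul towers. -/
def kosMap : ∀ l : List A, MapIso Φ (kos M l) (kos M' l)
  | [] =>
    { e := fun t _ => constE Φ e₀ t
      φ_e := fun t _ _ _ => by
        show (constE Φ e₀ t).hom ≫ 𝟙 _ = Φ.map (𝟙 (constX M t)) ≫ (constE Φ e₀ t).hom
        rw [Category.comp_id, Φ.map_id, Category.id_comp]
      d_e := fun t _ => by
        show (constE Φ e₀ (t + 1)).hom ≫ 0 = Φ.map (0 : constX M (t + 1) ⟶ constX M t) ≫ (constE Φ e₀ t).hom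
        rw [comp_zero, Φ.map_zero, zero_comp] }
  | g :: l => (kosMap l).cone g

end Groth.Agent.KosPro27
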