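import Groth.Agent.AlgSec27.Dev
import Mathlib.RingTheory.Support

/-!
Algebraization of formal sections along a principal ideal.
-/

set_option autoImplicit false
set_option backward.isDefEq.respectTransparency.types false

universe u

open TopologicalSpace

noncomputable section

namespace Groth.Agent.AlgSec27

open Frac27 LC15

variable {A : Type u} [CommRing A] {M : Type u} [AddCommGroup M] [Module A M]

/-- The punctured spectrum as an open of the prime spectrum. -/
abbrev pU (𝔞 : Ideal A) : Opens (PrimeSpectrum A) := LocCoh.puncturedOpen A 𝔞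

instance instAddCommGroupSec (M : Type u) [AddCommGroup M] [Module A M] (V : Opens (PrimeSpectrum A)) :
    AddCommGroup (Sec A M V) :=
  (secSubmodule A M V).addCommGroup

theorem smap_smul_id {U : Opens (PrimeSpectrum A)} (a : A) (s : Sec A M U) :
    smap (a • (LinearMap.id : M →ₗ[A] M)) U s = a • s := Sec.ext' fun p => by
  obtain ⟨m, r, hr, he⟩ := exists_frac (s.1 p)
  rw [smap_apply, he, lmap_frac]
  show frac (a • m) r hr = a • s.1 p
  rw [he, smul_frac]

theorem smul_quotPow_sec_eq_zero {I : Ideal A} {U : Opens (PrimeSpectrum A)} {n : ℕ} {a : A}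
    (ha : a ∈ I ^ (n + 1)) (s : Sec A (Formal2.quotPow A I M n) U) : a • s = 0 := by
  rw [← smap_smul_id]
  have h : a • (LinearMap.id : Formal2.quotPow A I M n →ₗ[A] Formal2.quotPow A I M n) = 0 :=
    LinearMap.ext fun x => by
      obtain ⟨x, rfl⟩ := Submodule.mkQ_surjective _ x
      show a • Formal2.quotPowπ A I M n x = 0
      rw [← map_smul]
      exact (Submodule.Quotient.mk_eq_zero _).2 (Submodule.smul_mem_smul ha Submodule.mem_top)
  rw [h, smap_zero_hom]

theorem mem_span_singleton_pow_smul {f : A} {k : ℕ} {x : M} :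
    x ∈ (Ideal.span {f}) ^ k • (⊤ : Submodule A M) ↔ ∃ y : M, f ^ k • y = x := by
  rw [Ideal.span_singleton_pow, Submodule.ideal_span_singleton_smul, Submodule.mem_smul_pointwise_iff_exists]
  simp

variable [IsNoetherianRing A] [Module.Finite A M] {𝔞 : Ideal A} {f : A}

theorem finite_sec {Q : Type u} [AddCommGroup Q] [Module A Q] [Module.Finite A Q]
    (h : Module.Finite A (LocCoh.H 𝔞 1 Q)) : Module.Finite A (Sec A Q (pU 𝔞)) := by
  classical
  obtain ⟨t, ht⟩ := h.fg_top
  choose e he using isPowerTorsion_H 𝔞 1 (M := Q)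
  let c := t.sup e
  have hc : ∀ a ∈ 𝔞 ^ c, ∀ z : LocCoh.H 𝔞 1 Q, a • z = 0 := fun a ha z => by
    have hz : z ∈ Submodule.span A (t : Set (LocCoh.H 𝔞 1 Q)) := ht.symm ▸ Submodule.mem_top
    induction hz using Submodule.span_induction with
    | mem w hw => exact he w a (Ideal.pow_le_pow_right (Finset.le_sup hw) ha)
    | zero => rw [smul_zero]
    | add x y _ _ hx hy => rw [smul_add, hx, hy, add_zero]
    | smul r x _ hx => rw [smul_comm, hx, smul_zero]
  obtain ⟨s, hs⟩ := (IsNoetherian.noetherian (𝔞 ^ c : Ideal A) : (𝔞 ^ c : Ideal A).FG)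
  let U : Opens (PrimeSpectrum A) := pU 𝔞
  let R := LinearMap.range (toSecL Q U)
  have hmem : ∀ (a : s) (σ : Sec A Q U), (a : A) • σ ∈ R := fun a σ => by
    obtain ⟨x, hx⟩ := exists_toSec_eq ((a : A) • LinearMap.id : Q →ₗ[A] Q) (fun z => by
      rw [Hmap_smul, Hmap_id, LinearMap.smul_apply, LinearMap.id_apply,
        hc a (hs ▸ Submodule.subset_span a.2) z]) σ
    exact ⟨x, by rw [← smap_smul_id]; exact hx⟩
  let Φ : Sec A Q U →ₗ[A] (s → R) := LinearMap.pi fun a =>
    ((a : A) • LinearMap.id : Sec A Q U →ₗ[A] Sec A Q U).codRestrict R (hmem a)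
  haveI : Module.Finite A R := Module.Finite.range _
  haveI : IsNoetherian A (s → R) := isNoetherian_pi
  refine Module.Finite.of_injective Φ fun σ τ h => smul_sres_eq fun y => ?_
  obtain ⟨a, ha, hay⟩ : ∃ a ∈ s, a ∉ y.1.asIdeal := by
    by_contra hne
    push Not at hne
    exact y.2 (y.1.isPrime.le_of_pow_le (hs ▸ Submodule.span_le.2 hne : 𝔞 ^ c ≤ y.1.asIdeal))
  exact ⟨a, hay, congrArg Subtype.val (congrFun h ⟨a, ha⟩)⟩

variable (𝔞 f M) in
/-- The compatible families of sections. -/
def famN : Submodule A (∀ n, Sec A (Formal2.quotPow A (Ideal.span {f}) M n) (pU 𝔞)) where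
  carrier := {y | ∀ n, smap (Formal2.quotPowTrans A (Ideal.span {f}) M n) _ (y (n + 1)) = y n}
  zero_mem' n := map_zero _
  add_mem' {y z} hy hz n := by
    show smap _ _ (y (n + 1) + z (n + 1)) = y n + z n
    rw [map_add, hy, hz]
  smul_mem' a y hy n := by
    show smap _ _ (a • y (n + 1)) = a • y n
    rw [smap_smul, hy]

omit [IsNoetherianRing A] [Module.Finite A M] in
theorem exists_smul_eq (hreg : IsSMulRegular M f) (y : famN M 𝔞 f) (h0 : y.1 0 = 0) :
    ∃ y' : famN M 𝔞 f, y = f • y' := by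
  let I := Ideal.span {f}
  let μ : ∀ n, Formal2.quotPow A I M n →ₗ[A] Formal2.quotPow A I M (n + 1) := fun n =>
    Submodule.mapQ _ _ (f • LinearMap.id) (Submodule.smul_le.2 fun a ha x _ => by
      rw [Submodule.mem_comap, LinearMap.smul_apply, LinearMap.id_apply]
      rw [smul_smul]
      refine Submodule.smul_mem_smul ?_ Submodule.mem_top
      rw [pow_succ']
      exact Ideal.mul_mem_mul (Ideal.mem_span_singleton_self f) ha)
  have hμmk : ∀ n x, μ n (Formal2.quotPowπ A I M n x) = Formal2.quotPowπ A I M (n + 1) (f • x) :=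
    fun n x => Submodule.mapQ_apply ..
  have hμ : ∀ n, Function.Injective (μ n) := fun n => by
    rw [injective_iff_map_eq_zero]
    intro x hx
    obtain ⟨x, rfl⟩ := Submodule.mkQ_surjective _ x
    obtain ⟨v, hv⟩ := mem_span_singleton_pow_smul.1 ((Submodule.Quotient.mk_eq_zero _).1 ((hμmk n x).symm.trans hx))
    rw [pow_succ', mul_smul] at hv
    exact (Submodule.Quotient.mk_eq_zero _).2 (mem_span_singleton_pow_smul.2 ⟨v, hreg hv⟩)
  have hexact : ∀ n, LinearMap.range (μ n) = LinearMap.ker (qtrans I M (Nat.zero_le (n + 1))) := fun n => by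
    refine le_antisymm ?_ fun x hx => ?_
    · rintro _ ⟨x, rfl⟩
      obtain ⟨x, rfl⟩ := Submodule.mkQ_surjective _ x
      rw [LinearMap.mem_ker]
      refine (congrArg _ (hμmk n x)).trans ((qtrans_mk I (Nat.zero_le _) _).trans ?_)
      exact (Submodule.Quotient.mk_eq_zero _).2 (mem_span_singleton_pow_smul.2 ⟨x, by rw [zero_add, pow_one]⟩)
    · obtain ⟨x, rfl⟩ := Submodule.mkQ_surjective _ x
      obtain ⟨v, hv⟩ := mem_span_singleton_pow_smul.1
        ((Submodule.Quotient.mk_eq_zero _).1 ((qtrans_mk I (Nat.zero_le _) x).symm.trans hx))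
      rw [zero_add, pow_one] at hv
      exact ⟨Formal2.quotPowπ A I M n v, (hμmk n v).trans (congrArg _ hv)⟩
  choose y' hy' using fun n => exists_smap_eq (μ n) (qtrans I M (Nat.zero_le (n + 1))) (hμ n) (hexact n)
    (y.1 (n + 1)) ((qtrans_compat I y.2 (Nat.zero_le _)).trans h0)
  have hmem : y' ∈ famN M 𝔞 f := fun n => by
    refine Sec.ext' fun p => lmap_injective (μ n) (hμ n) p.1 ?_
    have h1 : smap (μ n) _ (smap (Formal2.quotPowTrans A I M n) _ (y' (n + 1))) = smap (μ n) _ (y' n) := by
      rw [smap_comm (b := μ n) (c := Formal2.quotPowTrans A I M n) (d := Formal2.quotPowTrans A I M (n + 1))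
        (a := μ (n + 1)) (quot_hom_ext I fun x => by
          simp only [LinearMap.comp_apply, quotPowTrans_mk, hμmk]), hy', hy', y.2]
    exact congrArg (fun σ => σ.1 p) h1
  refine ⟨⟨y', hmem⟩, Subtype.ext (funext fun n => ?_)⟩
  show y.1 n = f • y' n
  rw [← y.2 n, ← hy', smap_smap, ← smap_smul_id]
  rw [show Formal2.quotPowTrans A I M n ∘ₗ μ n = f • LinearMap.id from quot_hom_ext I fun x => by
    rw [LinearMap.comp_apply, hμmk, quotPowTrans_mk, map_smul]
    rfl]

variable [IsAdicComplete (Ideal.span {f}) A] (hreg : IsSMulRegular M f)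
  (hfin : Module.Finite A (LocCoh.H 𝔞 1 (Formal2.quotPow A (Ideal.span {f}) M 0)))
include hreg hfin

theorem finite_famN : Module.Finite A (famN M 𝔞 f) := by
  classical
  let U : Opens (PrimeSpectrum A) := pU 𝔞
  haveI : Module.Finite A (Formal2.quotPow A (Ideal.span {f}) M 0) :=
    Module.Finite.of_surjective (Formal2.quotPowπ A (Ideal.span {f}) M 0) (Submodule.mkQ_surjective _)
  haveI := finite_sec hfin
  let p₀ : famN M 𝔞 f →ₗ[A] Sec A (Formal2.quotPow A (Ideal.span {f}) M 0) U :=
    (LinearMap.proj 0).comp (famN M 𝔞 f).subtype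
  obtain ⟨r, g, hg⟩ := Submodule.fg_iff_exists_fin_generating_family.1
    (IsNoetherian.noetherian (LinearMap.range p₀))
  choose G hG using fun i : Fin r => (hg ▸ Submodule.subset_span ⟨i, rfl⟩ : g i ∈ LinearMap.range p₀)
  let ψ : (Fin r → A) →ₗ[A] famN M 𝔞 f := Fintype.linearCombination A G
  have hstep : ∀ y : famN M 𝔞 f, ∃ (a : Fin r → A) (y' : famN M 𝔞 f), y = ψ a + f • y' := fun y => by
    have h1 : p₀ y ∈ Submodule.span A (Set.range g) := hg ▸ LinearMap.mem_range_self p₀ y
    obtain ⟨a, ha⟩ := (Submodule.mem_span_range_iff_exists_fun A).1 h1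
    obtain ⟨y', hy'⟩ := exists_smul_eq hreg (y - ψ a) (by
      show p₀ (y - ψ a) = 0
      rw [map_sub, sub_eq_zero, ← ha, Fintype.linearCombination_apply, map_sum]
      exact Finset.sum_congr rfl fun i _ => by rw [map_smul, hG])
    exact ⟨a, y', by rw [← hy', add_sub_cancel]⟩
  choose a nx hnx using hstep
  refine Module.Finite.of_surjective ψ fun y => ?_
  let Y : ℕ → famN M 𝔞 f := fun k => nx^[k] y
  let S : ℕ → (Fin r → A) := fun k => ∑ j ∈ Finset.range k, f ^ j • a (Y j)
  have hY : ∀ k, y = ψ (S k) + f ^ k • Y k := fun k => by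
    induction k with
    | zero => simp [S, Y]
    | succ k ih =>
      simp only [S, Y] at ih ⊢
      rw [Finset.sum_range_succ, map_add, map_smul, Function.iterate_succ_apply', pow_succ, mul_smul]
      conv_lhs => rw [ih, hnx (nx^[k] y)]
      rw [smul_add]
      abel
  haveI := AdicC27.isAdicComplete_of_finite (I := Ideal.span {f}) (Fin r → A)
  obtain ⟨L, hL⟩ := IsPrecomplete.prec (IsAdicComplete.toIsPrecomplete (I := Ideal.span {f}) (M := Fin r → A))
    (f := S) fun {p q} hpq => by
      refine SModEq.sub_mem.2 (mem_span_singleton_pow_smul.2 ⟨-∑ j ∈ Finset.Ico p q, f ^ (j - p) • a (Y j), ?_⟩)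
      rw [smul_neg, Finset.smul_sum, ← neg_sub, neg_inj]
      simp only [S]
      rw [← Finset.sum_Ico_eq_sub _ hpq]
      refine Finset.sum_congr rfl fun j hj => ?_
      rw [smul_smul, ← pow_add, Nat.add_sub_cancel' (Finset.mem_Ico.1 hj).1]
  refine ⟨L, Subtype.ext (funext fun n => ?_)⟩
  obtain ⟨w, hw⟩ := mem_span_singleton_pow_smul.1 (SModEq.sub_mem.1 (hL (n + 1)).symm)
  have h1 : ψ L = y + f ^ (n + 1) • (ψ w - Y (n + 1)) := by
    conv_rhs => rw [hY (n + 1), smul_sub, ← map_smul, hw, map_sub]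
    abel
  rw [h1]
  show y.1 n + f ^ (n + 1) • (ψ w - Y (n + 1) : famN M 𝔞 f).1 n = y.1 n
  rw [smul_quotPow_sec_eq_zero (Ideal.pow_mem_pow (Ideal.mem_span_singleton_self f) _), add_zero]

theorem sSurj_principal : SSurj (Ideal.span {f}) M (pU 𝔞) := by
  classical
  intro y hy
  haveI := finite_famN hreg hfin
  let U : Opens (PrimeSpectrum A) := pU 𝔞
  let I := Ideal.span {f}
  let c₀ : M →ₗ[A] ∀ n, Sec A (Formal2.quotPow A I M n) U :=
    LinearMap.pi fun n => (toSecL _ U).comp (Formal2.quotPowπ A I M n)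
  let c : M →ₗ[A] famN M 𝔞 f := c₀.codRestrict _ fun m n => by
    show smap _ U (toSec _ U) = toSec _ U
    rw [smap_toSec, quotPowTrans_mk]
  let C := famN M 𝔞 f ⧸ LinearMap.range c
  let K₀ := LinearMap.ker c
  haveI : Module.Finite A K₀ := Module.Finite.of_fg (IsNoetherian.noetherian _)
  let 𝔠 : Ideal A := Module.annihilator A C * Module.annihilator A K₀
  let V : Opens (PrimeSpectrum A) := U ⊓ pU 𝔠
  have hV : Adm I U V := by
    refine ⟨inf_le_left, fun p hpU hpI => ⟨hpU, fun h𝔠 => ?_⟩⟩
    rcases p.isPrime.mul_le.1 h𝔠 with hC | hK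
    · have hsupp : p ∈ Module.support A C := Module.mem_support_iff_of_finite.2 hC
      let B := Localization.AtPrime p.asIdeal
      haveI : IsNoetherianRing B := IsLocalization.isNoetherianRing p.asIdeal.primeCompl _ inferInstance
      haveI : Module.Finite B (LocalizedModule p.asIdeal.primeCompl C) :=
        Module.Finite.of_isLocalizedModule p.asIdeal.primeCompl (LocalizedModule.mkLinearMap _ C)
      haveI : Nontrivial (LocalizedModule p.asIdeal.primeCompl C) := hsupp
      have hbot : (⊤ : Submodule B (LocalizedModule p.asIdeal.primeCompl C)) = ⊥ := by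
        refine Submodule.eq_bot_of_le_smul_of_le_jacobson_bot (Ideal.span {algebraMap A B f}) ⊤
          Module.Finite.fg_top (fun z _ => ?_) ((Ideal.span_singleton_le_iff_mem _).2 ?_)
        · induction z using LocalizedModule.induction_on with
          | h x t =>
            obtain ⟨z, rfl⟩ := Submodule.mkQ_surjective _ x
            obtain ⟨r, q, hr, hrep⟩ := exists_rep (z.1 0) ⟨p, hpU⟩
            obtain ⟨m, rfl⟩ := Submodule.mkQ_surjective _ q
            obtain ⟨k, hk⟩ := exists_pow_smul_eq_zero r (r • z.1 0 - toSec (Formal2.quotPowπ A I M 0 m) U)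
              fun s hs => by
                obtain ⟨_, he⟩ := hrep s.1 hs
                change r • (z.1 0).1 s - frac (Formal2.quotPowπ A I M 0 m) 1 s.1.isPrime.one_notMem = 0
                rw [show (z.1 0).1 s = _ from he, smul_frac, sub_eq_zero, frac, frac, LocalizedModule.mk_eq]
                exact ⟨1, by simp [Submonoid.smul_def]⟩
            obtain ⟨z', hz'⟩ := exists_smul_eq hreg (r ^ (k + 1) • z - c (r ^ k • m)) (by
              show r ^ (k + 1) • z.1 0 - (c (r ^ k • m)).1 0 = 0
              have h0 : r ^ k • (r • z.1 0 - toSec (Formal2.quotPowπ A I M 0 m) U) = 0 := Sec.ext' hk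
              rw [smul_sub, smul_smul, ← pow_succ] at h0
              rw [map_smul]
              exact h0)
            have hru : r ^ (k + 1) ∈ p.asIdeal.primeCompl := fun h => hr (p.isPrime.mem_of_pow_mem _ h)
            have e1 : r ^ (k + 1) • Submodule.mkQ (LinearMap.range c) z = f • Submodule.mkQ (LinearMap.range c) z' := by
              rw [← map_smul, ← map_smul, ← hz', map_sub]
              rw [show Submodule.mkQ (LinearMap.range c) (c (r ^ k • m)) = 0 from
                (Submodule.Quotient.mk_eq_zero _).2 ⟨_, rfl⟩, sub_zero]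
            have e2 : LocalizedModule.mk (Submodule.mkQ (LinearMap.range c) z) t =
                algebraMap A B f • LocalizedModule.mk (Submodule.mkQ (LinearMap.range c) z')
                  (⟨r ^ (k + 1), hru⟩ * t) := by
              rw [algebraMap_smul, LocalizedModule.smul'_mk, ← e1, LocalizedModule.mk_eq]
              exact ⟨1, by simp only [one_smul, Submonoid.smul_def, Submonoid.coe_mul, smul_smul]; rw [mul_comm (t : A)]⟩
            rw [e2]
            exact Submodule.smul_mem_smul (Ideal.mem_span_singleton_self _) Submodule.mem_top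
        · exact IsLocalRing.maximalIdeal_le_jacobson _
            ((IsLocalization.AtPrime.to_map_mem_maximal_iff B p.asIdeal f).2 (hpI (Ideal.mem_span_singleton_self f)))
      exact bot_ne_top hbot.symm
    · have hsupp : p ∈ Module.support A K₀ := Module.mem_support_iff_of_finite.2 hK
      rw [Module.mem_support_iff'] at hsupp
      obtain ⟨⟨d, hd⟩, hne⟩ := hsupp
      obtain ⟨W, ⟨hW, _⟩, h0⟩ := sInj_of_finite (I := I) (U := U) M U admissible_self (toSec d U) fun n => by
        rw [smap_toSec]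
        exact congrFun (congrArg Subtype.val (LinearMap.mem_ker.1 hd)) n
      obtain ⟨e, he, hed⟩ := (frac_eq_zero_iff _ _ _).1
        (show frac d 1 p.isPrime.one_notMem = 0 from congrArg (fun σ => σ.1 ⟨p, hW.2 p hpU hpI⟩) h0)
      exact hne e he (Subtype.ext hed)
  have hex : ∀ a ∈ Module.annihilator A C, ∃ m, c m = a • (⟨y, hy⟩ : famN M 𝔞 f) := fun a ha => by
    have h0 : Submodule.mkQ (LinearMap.range c) (a • (⟨y, hy⟩ : famN M 𝔞 f)) = 0 := by
      rw [map_smul]; exact Module.mem_annihilator.1 ha _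
    exact (Submodule.Quotient.mk_eq_zero _).1 h0
  choose m hm using hex
  have hp : ∀ p : V, ∃ a, a ∈ Module.annihilator A C ∧ a ∉ p.1.asIdeal ∧
      ∀ d ∈ K₀, frac d 1 p.1.isPrime.one_notMem = 0 := fun p => by
    obtain ⟨a, ha, hap⟩ := SetLike.not_le_iff_exists.1 fun h : Module.annihilator A C ≤ p.1.asIdeal =>
      p.2.2 (Ideal.mul_le_left.trans h)
    obtain ⟨e, he, hep⟩ := SetLike.not_le_iff_exists.1 fun h : Module.annihilator A K₀ ≤ p.1.asIdeal =>
      p.2.2 (Ideal.mul_le_right.trans h)
    exact ⟨a, ha, hap, fun d hd => (frac_eq_zero_iff _ _ _).2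
      ⟨e, hep, congrArg Subtype.val (Module.mem_annihilator.1 he ⟨d, hd⟩)⟩⟩
  choose a ha hap hK using hp
  let g : ∀ p : V, Loc A M p.1 := fun p => frac (m (a p) (ha p)) (a p) (hap p)
  have hwd : ∀ (p : V) (b : A) (hb : b ∈ Module.annihilator A C) (hbp : b ∉ p.1.asIdeal),
      g p = frac (m b hb) b hbp := fun p b hb hbp => by
    have hd : b • m (a p) (ha p) - a p • m b hb ∈ K₀ := LinearMap.mem_ker.2 (by
      rw [map_sub, map_smul, map_smul, hm, hm, smul_comm, sub_self])
    obtain ⟨e, he, hed⟩ := (frac_eq_zero_iff _ _ _).1 (hK p _ hd)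
    rw [smul_sub, sub_eq_zero] at hed
    simp only [g, frac]
    rw [LocalizedModule.mk_eq]
    exact ⟨⟨e, he⟩, hed⟩
  refine ⟨V, hV, mkSec g fun p => ?_, fun n => Sec.ext' fun p => ?_⟩
  · obtain ⟨_, ⟨t, rfl⟩, hpt, hsub⟩ :=
      PrimeSpectrum.isTopologicalBasis_basic_opens.exists_subset_of_mem_open p.2 V.isOpen
    exact ⟨a p, m (a p) (ha p), hap p, fun q hq => hwd q (a p) (ha p) hq⟩
  · rw [sres_apply, smap_apply, mkSec_apply, lmap_frac]
    refine smul_cancel (hap p) ?_
    have h1 := congrArg (fun σ : famN M 𝔞 f => (σ.1 n).1 ⟨p.1, hV.1 p.2⟩) (hm (a p) (ha p))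
    refine h1.symm.trans ?_
    show frac (Formal2.quotPowπ A I M n (m (a p) (ha p))) 1 _ = _
    rw [smul_frac, frac, frac, LocalizedModule.mk_eq]
    exact ⟨1, by simp [Submonoid.smul_def]⟩

end Groth.Agent.AlgSec27
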