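import Groth.Agent.AlgSec27.Level
import Groth.Agent.Frac27.ColimBij
import Groth.Agent.LC16.SuppT3

/-!
Local cohomology of the quotients by powers is pro-zero in degrees zero and one.
-/

set_option autoImplicit false
set_option backward.isDefEq.respectTransparency.types false

universe u

open CategoryTheory CategoryTheory.Limits

attribute [local instance] HasDerivedCategory.standard

noncomputable section

namespace Groth.Agent.AlgSec27

open KosPro27 LC15 LC16

variable {A : Type u} [CommRing A] [IsNoetherianRing A]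

theorem pExact_kos_of_finite (K : Type u) [AddCommGroup K] [Module A K] [Module.Finite A K] (l : List A)
    (t : ℕ) : PExact (kos (ModuleCat.of A K) l) t := by
  haveI : IsNoetherian A ((𝟭 (ModuleCat.{u} A)).obj (ModuleCat.of A K)) := inferInstanceAs (IsNoetherian A K)
  intro n
  obtain ⟨m, h, hm⟩ := hPro_kos (𝟭 (ModuleCat.{u} A)) (ModuleCat.of A K)
    (bddTors_of_isNoetherian (B := A)) l t n
  refine ⟨m, h, ModuleCat.hom_ext (LinearMap.ext fun x => ?_)⟩
  let L := kos (ModuleCat.of A K) l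
  obtain ⟨v, hv⟩ := hm (kernel.ι (L.d t m) x) (congrArg (fun f => f x) (kernel.condition (L.d t m)))
  show cokernel.π (L.d (t + 1) n) (L.φ (t + 1) h (kernel.ι (L.d t m) x)) = 0
  refine (congrArg (cokernel.π (L.d (t + 1) n)) hv.symm).trans ?_
  exact congrArg (fun f => f v) (cokernel.condition (L.d (t + 1) n))

variable {I : Ideal A} (K : Type u) [AddCommGroup K] [Module A K]

omit [IsNoetherianRing A] in
/-- Transition maps factor through the transition maps of the Koszul cokernels. -/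
theorem exists_factor {l : List A} (hl : I = Ideal.span {g | g ∈ l}) {n m : ℕ} (h : n ≤ m) :
    ∃ N, n ≤ N ∧ ∀ (k : ℕ) (hk : n ≤ k), N ≤ k →
      ∃ (ρ : ModuleCat.of A (Formal2.quotPow A I K k) ⟶ cokernel ((kos (ModuleCat.of A K) l).d 0 m))
        (θ : cokernel ((kos (ModuleCat.of A K) l).d 0 n) ⟶ ModuleCat.of A (Formal2.quotPow A I K n)),
        ModuleCat.ofHom (Frac27.qtrans I K hk) = ρ ≫ φcok (kos (ModuleCat.of A K) l) 0 h ≫ θ := by
  let L := kos (ModuleCat.of A K) l
  let M := ModuleCat.of A K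
  obtain ⟨N, hN⟩ := exists_pow_le_powI I hl m
  let π : ∀ j : ℕ, M ⟶ ModuleCat.of A (Formal2.quotPow A I K j) := fun j =>
    ModuleCat.ofHom (Formal2.quotPowπ A I K j)
  have hθ : L.d 0 n ≫ (kosIso M l n).hom ≫ π n = 0 := by
    rw [d_zero_comp_eq_zero_iff]
    refine (powI_le_pow I l (fun g hg => hl ▸ Ideal.subset_span hg) n).trans fun a ha => ?_
    refine ModuleCat.hom_ext (LinearMap.ext fun x => ?_)
    show a • Formal2.quotPowπ A I K n x = 0
    rw [← map_smul]
    exact (Submodule.Quotient.mk_eq_zero _).2 (Submodule.smul_mem_smul ha Submodule.mem_top)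
  refine ⟨max n N, le_max_left _ _, fun k hk hNk => ?_⟩
  let g : M ⟶ cokernel (L.d 0 m) := (kosIso M l m).inv ≫ cokernel.π (L.d 0 m)
  have hg : powI l m ≤ killer M g := (d_zero_comp_eq_zero_iff M l m g).1 (by
    rw [Iso.hom_inv_id_assoc, cokernel.condition])
  let ρ₀ : Formal2.quotPow A I K k →ₗ[A] (cokernel (L.d 0 m) : ModuleCat.{u} A) := Submodule.liftQ _ g.hom (by
    refine Submodule.smul_le.2 fun a ha x _ => ?_
    show g.hom (a • x) = 0
    rw [map_smul]
    exact congrArg (fun f => f x) (show a • g = 0 from hg (hN (Ideal.pow_le_pow_right (by omega) ha))))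
  refine ⟨ModuleCat.ofHom ρ₀, cokernel.desc _ _ hθ, ?_⟩
  haveI : Epi (π k) := (ModuleCat.epi_iff_surjective _).2 (Submodule.mkQ_surjective _)
  rw [← cancel_epi (π k)]
  have h1 : π k ≫ ModuleCat.ofHom ρ₀ = g := rfl
  have h2 : π k ≫ ModuleCat.ofHom (Frac27.qtrans I K hk) = π n :=
    ModuleCat.hom_ext (Frac27.qtrans_π I hk)
  rw [h2, ← Category.assoc, h1, Category.assoc, ← Category.assoc (cokernel.π (L.d 0 m)), π_φcok,
    Category.assoc, cokernel.π_desc, ← Category.assoc, kosIso_inv_φ, Iso.inv_hom_id_assoc]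

variable {K} {ω : Dual.D A} (hω : Dual.IsDualizing A ω) {P : PrimeSpectrum A} (hK : GoodMod hω P K)
  {𝔞 : Ideal A} (hI : I ≤ 𝔞) {d : ℕ} (hd : LocCoh.CdLE A I d)
  (hdim : ∀ q : PrimeSpectrum A, P ≤ q → 𝔞 ≤ q.asIdeal →
    ((d + 1 : ℕ) : WithBot ℕ∞) < Formal2.dimBetween A P.asIdeal q.asIdeal)
include hω hK hI hd hdim

/-- Pro-vanishing at the points of one level. -/
theorem exists_level {i : ℕ} (hi : i ≤ 1) (c : ℤ) (n : ℕ) :
    ∃ N, ∀ (q : PrimeSpectrum A), 𝔞 ≤ q.asIdeal → DualAnn.mu hω q = c →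
      ∀ (k : ℕ) (hk : n ≤ k), N ≤ k → lmapH q i (Frac27.qtrans I K hk) = 0 := by
  classical
  haveI := hK.finite
  obtain ⟨s, hs⟩ := (IsNoetherian.noetherian I : I.FG)
  let l := s.toList
  have hl : I = Ideal.span {g | g ∈ l} := hs.symm.trans (congrArg Ideal.span (Set.ext fun _ => Finset.mem_toList.symm))
  let L := kos (ModuleCat.of A K) l
  let 𝒯 : DeltaF.{u} A (ModuleCat.{u} A) :=
    piDelta fun q : {q : PrimeSpectrum A // 𝔞 ≤ q.asIdeal ∧ DualAnn.mu hω q = c} => locDelta q.1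
  have hv : ImVanish L 𝒯 0 (i + 1) :=
    imVanish_of_bound (r := l.length) (fun t n h => isZero_kos_X _ l t n h) (pExact_kos_of_finite K l) (i + 1)
      (fun t _ => hPro_level hω hK hI hdim hl hd hi c t) l.length 0 (by simp)
  obtain ⟨m, hm, hsurj⟩ := cok_surj hv n
  obtain ⟨N, -, hN⟩ := exists_factor (I := I) K hl hm
  refine ⟨N, fun q hq hqc k hk hNk => LinearMap.ext fun z => ?_⟩
  obtain ⟨ρ, θ, hf⟩ := hN k hk hNk
  let p₀ : {q : PrimeSpectrum A // 𝔞 ≤ q.asIdeal ∧ DualAnn.mu hω q = c} := ⟨q, hq, hqc⟩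
  let w : ∀ p : {q : PrimeSpectrum A // 𝔞 ≤ q.asIdeal ∧ DualAnn.mu hω q = c},
      (locFun p.1 i).obj (cokernel (L.d 0 m)) := Pi.single p₀ ((locFun q i).map ρ z)
  have hw : w p₀ = (locFun q i).map ρ z := Pi.single_eq_same p₀ _
  obtain ⟨x, hx⟩ := hsurj w
  have hx0 : x = 0 := funext fun p => by
    haveI : Subsingleton ((locFun p.1 i).obj (ModuleCat.of A K)) := subsingleton_LH hω hK hdim hi p.1 p.2.1
    exact (ConcreteCategory.bijective_of_isIso ((locFun p.1 i).map (kosIso (ModuleCat.of A K) l n).hom)).injective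
      (Subsingleton.elim _ _)
  rw [hx0, map_zero] at hx
  have h0 : (locFun q i).map (φcok L 0 hm) ((locFun q i).map ρ z) = 0 := by
    rw [← hw]
    exact congrFun hx.symm p₀
  show (locFun q i).map (ModuleCat.ofHom (Frac27.qtrans I K hk)) z = 0
  rw [hf, Functor.map_comp, Functor.map_comp, ModuleCat.comp_apply, ModuleCat.comp_apply, h0, map_zero]

/-- Local cohomology of the quotients is pro-zero in degrees zero and one. -/
theorem exists_Hmap_qtrans_eq_zero {i : ℕ} (hi : i ≤ 1) (n : ℕ) :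
    ∃ N, ∀ (k : ℕ) (hk : n ≤ k), N ≤ k →
      ∀ z : LocCoh.H 𝔞 i (Formal2.quotPow A I K k), Hmap 𝔞 i (Frac27.qtrans I K hk) z = 0 := by
  obtain ⟨a, b, hab⟩ := DualAnn.mu_bound hω
  choose N hN using fun c n => exists_level hω hK hI hd hdim hi c n
  let m' : ℕ → ℕ := fun n => max n ((Finset.Icc a b).sup fun c => N c n)
  let T : Set (PrimeSpectrum A) := PrimeSpectrum.zeroLocus (𝔞 : Set A)
  obtain ⟨e, he⟩ := DR39.exists_dim_le hω
  have hT : SuppT.DimLt T (e + 1) := SuppT.dimLt_succ_of_krullDim_le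
    ((Order.krullDim_le_of_strictMono (fun q : T => q.1) fun _ _ h => h).trans he)
  refine ⟨m'^[e + 1] n, fun k hk hNk z => ?_⟩
  have h0 := SuppT.map_eq_zero (fun j => Formal2.quotPow A I K j) (fun k m h => Frac27.qtrans I K h)
    (fun k l m h₁ h₂ => (Frac27.qtrans_qtrans I h₁ h₂).symm) i m' (fun j => le_max_left _ _) (e + 1) T hT
    (fun q hq m k h hmk => by
      have hc : DualAnn.mu hω q ∈ Finset.Icc a b := Finset.mem_Icc.2 (hab q)
      have h1 := hN (DualAnn.mu hω q) m q hq rfl k h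
        (((Finset.le_sup (f := fun c => N c m) hc).trans (le_max_right _ _)).trans hmk)
      exact ModuleCat.hom_ext (LinearMap.ext fun x => LinearMap.congr_fun h1 x))
    n k hk hNk (SuppT.toT T i _ 𝔞 (Set.Subset.refl _) z)
  rw [SuppT.HTmap_toT] at h0
  obtain ⟨J, hJ, hJT, hz⟩ := SuppT.toT_eq_zero T i _ (Set.Subset.refl _) h0
  have hrad : 𝔞 ≤ J.radical := (PrimeSpectrum.zeroLocus_subset_zeroLocus_iff J 𝔞).1 hJT
  exact (HofLE_bijective_radical hJ i hrad).1 (hz.trans (map_zero _).symm)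

end Groth.Agent.AlgSec27
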