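import Groth.Agent.LC16.DualAnn
import Groth.Agent.DR39.LocalDual3
import Groth.Agent.LC15.DepthSeq
import Groth.Prelude.Def_CAlg

/-!
A module of depth at least two over a domain quotient of a ring with a dualizing complex.
-/

set_option autoImplicit false
set_option backward.isDefEq.respectTransparency.types false

universe u

open CategoryTheory CategoryTheory.Limits CategoryTheory.Pretriangulated

attribute [local instance] HasDerivedCategory.standard

noncomputable section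

namespace Groth.Agent.AlgSec27

open LC17 LC16

variable {A : Type u} [CommRing A] {ω : Dual.D A} (hω : Dual.IsDualizing A ω)
include hω

theorem exists_mu_le {N : Type u} [AddCommGroup N] [Module A N] [Module.Finite A N] {n : ℤ}
    {r : PrimeSpectrum A} (h : gAnn ω (ModuleCat.of A N) n ≤ r.asIdeal) :
    ∃ p ∈ Module.support A N, p ≤ r ∧ DualAnn.mu hω p ≤ n := by
  haveI := hω.isNoetherianRing
  let B := Localization.AtPrime r.asIdeal
  haveI : IsNoetherianRing B := IsLocalization.isNoetherianRing r.asIdeal.primeCompl _ inferInstance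
  have hd := DualAnn.isDualizing_omegaAt hω r
  have hn := DualAnn.isNormalized_omegaAt hω r
  let R := LocalizedModule r.asIdeal.primeCompl N
  have hne : gAnn (DualAnn.omegaAt hω r) (DualAnn.locM r N) (n - DualAnn.mu hω r) ≠ ⊤ := by
    rw [← gAnn_congr _ (DualAnn.locIso r N), Ne, ← DR39.subsingleton_gm_iff]
    have h1 := (DR39.gAnn_le_iff_atPrime hω N n r.asIdeal).1 h
    rw [Ne, ← DR39.subsingleton_gm_iff] at h1
    exact fun h2 => h1 ((Iso.homToEquiv ((shiftFunctorAdd' (Dual.D B) (DualAnn.mu hω r) (n - DualAnn.mu hω r) n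
      (by omega)).app _)).subsingleton_congr.2 h2)
  haveI : Nontrivial R := by
    rw [← not_subsingleton_iff_nontrivial]
    intro hs
    exact hne ((gAnn_eq_top_iff _).2 fun f => ((DerivedCategory.singleFunctor _ 0).map_isZero
      (ModuleCat.isZero_of_subsingleton _)).eq_of_src f 0)
  haveI : Module.Finite B R :=
    Module.Finite.of_isLocalizedModule r.asIdeal.primeCompl (LocalizedModule.mkLinearMap _ N)
  obtain ⟨d, hd'⟩ : ∃ d : ℕ, Module.supportDim B R = (d : ℕ∞) := by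
    obtain ⟨N₀, hN₀⟩ := DR39.exists_dim_le hd
    have h1 := (Module.supportDim_le_ringKrullDim B R).trans hN₀
    have h2 : Module.supportDim B R ≠ ⊥ := Module.supportDim_ne_bot_of_nontrivial B R
    obtain ⟨e, he⟩ := WithBot.ne_bot_iff_exists.1 h2
    rw [← he, WithBot.coe_le_coe] at h1
    obtain ⟨d, hd⟩ := ENat.ne_top_iff_exists.1 (ne_top_of_le_ne_top (ENat.coe_ne_top N₀) h1)
    exact ⟨d, by rw [← he, ← hd]⟩
  obtain ⟨hlow, -⟩ := DR39.bounds_of_nontrivial hd hn R hd' (i := n - DualAnn.mu hω r)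
    (not_subsingleton_iff_nontrivial.1 fun hs => hne (DR39.subsingleton_gm_iff.1 hs))
  obtain ⟨l, hl⟩ := Order.le_krullDim_iff.1 (le_of_eq hd'.symm)
  let c : Module.support B R → PrimeSpectrum A := fun P => PrimeSpectrum.comap (algebraMap A B) P.1
  have hc : StrictMono c := fun P Q hPQ => by
    refine lt_of_le_not_ge (Ideal.comap_mono hPQ.le) fun hge => hPQ.not_ge ?_
    have h1 := Ideal.map_mono (f := algebraMap A B) hge
    rwa [PrimeSpectrum.comap_asIdeal, PrimeSpectrum.comap_asIdeal,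
      IsLocalization.map_under r.asIdeal.primeCompl, IsLocalization.map_under r.asIdeal.primeCompl] at h1
  have hle : ∀ P, c P ≤ r := fun P a ha => by
    by_contra hna
    exact P.1.isPrime.ne_top (Ideal.eq_top_of_isUnit_mem _ ha
      (IsLocalization.map_units B (⟨a, hna⟩ : r.asIdeal.primeCompl)))
  refine ⟨c l.head, ?_, hle _, ?_⟩
  · rw [Module.mem_support_iff_of_finite]
    intro a ha
    have hP := l.head.2
    rw [Module.mem_support_iff_of_finite] at hP
    refine hP (Module.mem_annihilator.2 fun z => ?_)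
    induction z using LocalizedModule.induction_on with
    | h m s => rw [algebraMap_smul, LocalizedModule.smul'_mk, Module.mem_annihilator.1 ha m, LocalizedModule.zero_mk]
  · have h1 := DualAnn.mu_chain hω (l.map c hc)
    have h2 := DualAnn.mu_mono hω (hle l.last)
    rw [LTSeries.head_map, LTSeries.last_map] at h1
    simp only [LTSeries.map_length] at h1
    omega

theorem gm_eq_zero {N : Type u} [AddCommGroup N] [Module A N] [Module.Finite A N] {n : ℤ}
    (h : ∀ p ∈ Module.support A N, n < DualAnn.mu hω p) (f : GM ω (ModuleCat.of A N) n) : f = 0 := by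
  refine (gAnn_eq_top_iff ω).1 ?_ f
  by_contra hne
  obtain ⟨m, hm, hle⟩ := Ideal.exists_le_maximal _ hne
  obtain ⟨p, hp, -, hmu⟩ := exists_mu_le hω (r := ⟨m, hm.isPrime⟩) hle
  have := h p hp
  omega

omit hω in
theorem conn_pre {S : ShortComplex (ModuleCat.{u} A)} (hS : S.ShortExact) (n m : ℤ) (h : n + 1 = m)
    (f : GM ω S.X₂ n) : conn ω hS n m h (pre ω S.f n f) = 0 := by
  show hS.singleδ ≫ ((DerivedCategory.singleFunctor (ModuleCat.{u} A) 0).map S.f ≫ f)⟦(1 : ℤ)⟧' ≫ _ = 0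
  rw [Functor.map_comp, Category.assoc, ← Category.assoc hS.singleδ,
    show hS.singleδ ≫ ((DerivedCategory.singleFunctor (ModuleCat.{u} A) 0).map S.f)⟦(1 : ℤ)⟧' = 0 from
      comp_distTriang_mor_zero₃₁ _ hS.singleTriangle_distinguished, zero_comp]

section Prime

variable (P : PrimeSpectrum A)

/-- The module of homomorphisms into the dualizing complex. -/
abbrev K₀ : Type (u + 1) := GM ω (ModuleCat.of A (A ⧸ P.asIdeal)) (DualAnn.mu hω P)

theorem smul_K₀ {a : A} (ha : a ∈ P.asIdeal) (k : K₀ hω P) : a • k = 0 :=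
  (mem_gAnn ω).1 (DR39.le_gAnn_quotient P.asIdeal _ ha) k

theorem exists_K₀_ne_zero : ∃ k : K₀ hω P, k ≠ 0 := by
  by_contra h
  push Not at h
  have h1 := DualAnn.mu_spec hω P
  have h2 : gAnn ω (ModuleCat.of A (A ⧸ P.asIdeal)) (DualAnn.mu hω P) = ⊤ := (gAnn_eq_top_iff ω).2 h
  exact P.2.ne_top (top_le_iff.1 (h2 ▸ h1))

omit hω in
theorem mul_injective {x : A} (hx : x ∉ P.asIdeal) :
    Function.Injective (x • LinearMap.id : (A ⧸ P.asIdeal) →ₗ[A] A ⧸ P.asIdeal) := by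
  rw [injective_iff_map_eq_zero]
  intro y hy
  obtain ⟨y, rfl⟩ := Ideal.Quotient.mk_surjective y
  rw [LinearMap.smul_apply, LinearMap.id_apply, ← Ideal.Quotient.mkₐ_eq_mk A, ← map_smul,
    Ideal.Quotient.mkₐ_eq_mk, Ideal.Quotient.eq_zero_iff_mem] at hy
  exact Ideal.Quotient.eq_zero_iff_mem.2 ((P.2.mem_or_mem hy).resolve_left hx)

/-- The quotient by `x`. -/
abbrev Bx (x : A) : Type u := (A ⧸ P.asIdeal) ⧸ LinearMap.range (x • LinearMap.id : (A ⧸ P.asIdeal) →ₗ[A] A ⧸ P.asIdeal)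

omit hω in
theorem le_annihilator_Bx (x : A) : P.asIdeal ⊔ Ideal.span {x} ≤ Module.annihilator A (Bx P x) := by
  refine sup_le (fun a ha => ?_) ((Ideal.span_singleton_le_iff_mem _).2 ?_)
  · refine Module.mem_annihilator.2 fun z => ?_
    obtain ⟨z, rfl⟩ := Submodule.mkQ_surjective _ z
    obtain ⟨z, rfl⟩ := Ideal.Quotient.mk_surjective z
    rw [← map_smul, ← Ideal.Quotient.mkₐ_eq_mk A, ← map_smul, Ideal.Quotient.mkₐ_eq_mk, smul_eq_mul,
      Ideal.Quotient.eq_zero_iff_mem.2 (Ideal.mul_mem_right _ _ ha), map_zero]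
  · refine Module.mem_annihilator.2 fun z => ?_
    obtain ⟨z, rfl⟩ := Submodule.mkQ_surjective _ z
    rw [← map_smul]
    exact (Submodule.Quotient.mk_eq_zero _).2 ⟨z, rfl⟩

omit hω in
theorem shortExact_x {x : A} (hx : x ∉ P.asIdeal) :
    (ShortComplex.mk (ModuleCat.ofHom (x • LinearMap.id : (A ⧸ P.asIdeal) →ₗ[A] A ⧸ P.asIdeal))
      (ModuleCat.ofHom (LinearMap.range (x • LinearMap.id : (A ⧸ P.asIdeal) →ₗ[A] A ⧸ P.asIdeal)).mkQ)
      (ModuleCat.hom_ext (LinearMap.exact_map_mkQ_range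
        (x • LinearMap.id : (A ⧸ P.asIdeal) →ₗ[A] A ⧸ P.asIdeal)).linearMap_comp_eq_zero)).ShortExact :=
  LC17.shortExact_of_exact (x • LinearMap.id : (A ⧸ P.asIdeal) →ₗ[A] A ⧸ P.asIdeal)
    (LinearMap.range (x • LinearMap.id : (A ⧸ P.asIdeal) →ₗ[A] A ⧸ P.asIdeal)).mkQ
    (mul_injective P hx) (Submodule.mkQ_surjective _)
    (LinearMap.exact_map_mkQ_range (x • LinearMap.id : (A ⧸ P.asIdeal) →ₗ[A] A ⧸ P.asIdeal))

theorem injective_smul_K₀ {x : A} (hx : x ∉ P.asIdeal) (k : K₀ hω P) (hk : x • k = 0) : k = 0 := by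
  have hS := shortExact_x P hx
  obtain ⟨g, hg⟩ := exact₂ ω hS _ k ((pre_smul_id ω x _ k).trans hk)
  rw [← hg, gm_eq_zero hω (fun p hp => ?_) g, map_zero]
  rw [Module.mem_support_iff_of_finite] at hp
  refine DualAnn.mu_lt hω (lt_of_le_of_ne (fun a ha => hp (le_annihilator_Bx P x (Ideal.mem_sup_left ha))) ?_)
  rintro rfl
  exact hx (hp (le_annihilator_Bx P x (Ideal.mem_sup_right (Ideal.mem_span_singleton_self x))))

theorem smul_mem_K₀ {x y : A} (hx : x ∉ P.asIdeal)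
    (hxy : ∀ p : PrimeSpectrum A, P.asIdeal ⊔ Ideal.span {x} ⊔ Ideal.span {y} ≤ p.asIdeal →
      DualAnn.mu hω P + 1 < DualAnn.mu hω p)
    (k k' : K₀ hω P) (h : y • k = x • k') : ∃ k'' : K₀ hω P, x • k'' = k := by
  haveI := hω.isNoetherianRing
  let n := DualAnn.mu hω P
  have hS := shortExact_x P hx
  suffices hz : conn ω hS n (n + 1) rfl k = 0 by
    obtain ⟨g, hg⟩ := exact₁ ω hS n (n + 1) rfl k hz
    exact ⟨g, (pre_smul_id ω x n g).symm.trans hg⟩
  have hc : y • conn ω hS n (n + 1) rfl k = 0 := by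
    rw [← map_smul, h]
    exact (congrArg (conn ω hS n (n + 1) rfl) (pre_smul_id ω x n k').symm).trans (conn_pre hS n (n + 1) rfl k')
  generalize conn ω hS n (n + 1) rfl k = c at hc ⊢
  let μ : Bx P x →ₗ[A] Bx P x := y • LinearMap.id
  let T₁ := LinearMap.ker μ
  let W := LinearMap.range μ
  haveI : Module.Finite A T₁ := Module.Finite.of_fg (IsNoetherian.noetherian _)
  haveI : Module.Finite A W := Module.Finite.of_fg (IsNoetherian.noetherian _)
  have hann : ∀ (Z : Type u) [AddCommGroup Z] [Module A Z] [Module.Finite A Z],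
      (∀ a ∈ P.asIdeal ⊔ Ideal.span {x} ⊔ Ideal.span {y}, ∀ z : Z, a • z = 0) → ∀ j ≤ n + 1,
        ∀ f : GM ω (ModuleCat.of A Z) j, f = 0 := fun Z _ _ _ hZ j hj f => by
    refine gm_eq_zero hω (fun p hp => lt_of_le_of_lt hj (hxy p ?_)) f
    rw [Module.mem_support_iff_of_finite] at hp
    exact fun a ha => hp (Module.mem_annihilator.2 (hZ a ha))
  have hS₁ := LC17.shortExact_of_exact T₁.subtype μ.rangeRestrict Subtype.val_injective
    (LinearMap.surjective_rangeRestrict μ) (LinearMap.exact_iff.2 (by rw [LinearMap.ker_rangeRestrict, Submodule.range_subtype]))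
  have hS₂ := LC17.shortExact_of_exact W.subtype W.mkQ Subtype.val_injective W.mkQ_surjective
    (LinearMap.exact_subtype_mkQ W)
  let π : ModuleCat.of A (Bx P x) ⟶ ModuleCat.of A W := ModuleCat.ofHom μ.rangeRestrict
  let ι : ModuleCat.of A W ⟶ ModuleCat.of A (Bx P x) := ModuleCat.ofHom W.subtype
  have hfac : pre ω π (n + 1) (pre ω ι (n + 1) c) = 0 := by
    rw [pre_pre]
    exact (pre_smul_id ω y (n + 1) c).trans hc
  obtain ⟨g, hg⟩ := exact₃ ω hS₁ n (n + 1) rfl (pre ω ι (n + 1) c) hfac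
  have hT₁ : g = 0 := hann T₁ (fun a ha z => Subtype.ext ?_) n (by omega) g
  rotate_left
  · obtain ⟨b, hb, w, hw, rfl⟩ := Submodule.mem_sup.1 ha
    obtain ⟨r, rfl⟩ := Ideal.mem_span_singleton'.1 hw
    show (b + r * y) • (z : Bx P x) = 0
    have h1 : b • (z : Bx P x) = 0 := Module.mem_annihilator.1 (le_annihilator_Bx P x hb) _
    have h2 : y • (z : Bx P x) = 0 := z.2
    rw [add_smul, h1, mul_smul, h2, smul_zero, add_zero]
  have hι : pre ω ι (n + 1) c = 0 := by rw [← hg, hT₁, map_zero]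
  obtain ⟨g₂, hg₂⟩ := exact₂ ω hS₂ (n + 1) c hι
  rw [← hg₂, hann (Bx P x ⧸ W) (fun a ha z => ?_) (n + 1) le_rfl g₂, map_zero]
  obtain ⟨z, rfl⟩ := W.mkQ_surjective z
  obtain ⟨b, hb, w, hw, rfl⟩ := Submodule.mem_sup.1 ha
  obtain ⟨r, rfl⟩ := Ideal.mem_span_singleton'.1 hw
  rw [← map_smul, add_smul, Module.mem_annihilator.1 (le_annihilator_Bx P x hb) z, zero_add]
  exact (Submodule.Quotient.mk_eq_zero _).2 ⟨r • z, by
    show y • r • z = (r * y) • z
    rw [smul_smul, mul_comm]⟩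

theorem exists_regular_pair {p : PrimeSpectrum A} (hP : P ≤ p) (h : DualAnn.mu hω P + 2 ≤ DualAnn.mu hω p) :
    ∃ x ∈ p.asIdeal, x ∉ P.asIdeal ∧ ∃ y ∈ p.asIdeal, ∀ Q : PrimeSpectrum A,
      P.asIdeal ⊔ Ideal.span {x} ⊔ Ideal.span {y} ≤ Q.asIdeal → DualAnn.mu hω P + 1 < DualAnn.mu hω Q := by
  classical
  haveI := hω.isNoetherianRing
  obtain ⟨l, hl₀, hl₁, hlen⟩ := DualAnn.exists_chain hω hP
  have hl2 : 2 ≤ l.length := by omega
  let r := l ⟨1, by omega⟩
  have hPr : P < r := hl₀ ▸ l.strictMono (show (0 : Fin (l.length + 1)) < ⟨1, by omega⟩ from Nat.zero_lt_one)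
  have hrp : r < p := hl₁ ▸ l.strictMono (show (⟨1, by omega⟩ : Fin (l.length + 1)) < Fin.last l.length from hl2)
  obtain ⟨x, hxr, hxP⟩ := SetLike.exists_of_lt (show P.asIdeal < r.asIdeal from hPr)
  refine ⟨x, hrp.le hxr, hxP, ?_⟩
  let S := (P.asIdeal ⊔ Ideal.span {x}).finite_minimalPrimes_of_isNoetherianRing.toFinset
  have hS : ¬ (p.asIdeal : Set A) ⊆ ⋃ Q ∈ (S : Set (Ideal A)), (Q : Set A) := fun hsub => by
    obtain ⟨Q, hQ, hpQ⟩ := (Ideal.subset_union_prime (R := A) (s := S) (f := id) ⊥ ⊥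
      (fun Q hQ _ _ => ((Set.Finite.mem_toFinset _).1 hQ).1.1)).1 hsub
    have hQ' := (Set.Finite.mem_toFinset _).1 hQ
    have h1 : Q ≤ r.asIdeal := hQ'.2 ⟨r.2, sup_le hPr.le ((Ideal.span_singleton_le_iff_mem _).2 hxr)⟩
      ((show r.asIdeal ≤ p.asIdeal from hrp.le).trans hpQ)
    exact hrp.not_ge (hpQ.trans h1)
  obtain ⟨y, hyp, hy⟩ := Set.not_subset.1 hS
  refine ⟨y, hyp, fun Q hQ => ?_⟩
  obtain ⟨Q₀, hQ₀, hle⟩ := Ideal.exists_minimalPrimes_le (le_sup_left.trans hQ)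
  have hQP : P < ⟨Q₀, hQ₀.1.1⟩ := lt_of_le_of_ne (le_sup_left.trans hQ₀.1.2) fun heq =>
    hxP (heq.symm ▸ hQ₀.1.2 (Ideal.mem_sup_right (Ideal.mem_span_singleton_self x)))
  have hQQ : (⟨Q₀, hQ₀.1.1⟩ : PrimeSpectrum A) < Q := lt_of_le_of_ne hle fun heq =>
    hy (Set.mem_iUnion₂.2 ⟨Q₀, (Set.Finite.mem_toFinset _).2 hQ₀, by
      rw [show Q₀ = Q.asIdeal from congrArg PrimeSpectrum.asIdeal heq]
      exact hQ (Ideal.mem_sup_right (Ideal.mem_span_singleton_self y))⟩)
  have := DualAnn.mu_lt hω hQP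
  have := DualAnn.mu_lt hω hQQ
  omega

end Prime

end Groth.Agent.AlgSec27
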