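import Groth.Agent.AlgSec27.Crit
import Groth.Agent.AlgSec27.MapKos
import Mathlib.LinearAlgebra.TensorProduct.RightExactness

/-!
Pro-vanishing of Koszul homology, uniformly in the module.
-/

set_option autoImplicit false
set_option backward.isDefEq.respectTransparency.types false

universe u

open CategoryTheory CategoryTheory.Limits
open scoped TensorProduct

noncomputable section

namespace Groth.Agent.AlgSec27

open KosPro27

variable {A : Type u} [CommRing A]

/-- Tensoring with a module. -/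
def tens (H : Type u) [AddCommGroup H] [Module A H] : ModuleCat.{u} A ⥤ ModuleCat.{u} A where
  obj X := ModuleCat.of A (X ⊗[A] H)
  map f := ModuleCat.ofHom (f.hom.rTensor H)
  map_id X := ModuleCat.hom_ext (LinearMap.rTensor_id H X)
  map_comp f g := ModuleCat.hom_ext (LinearMap.rTensor_comp H g.hom f.hom)

instance additive_tens (H : Type u) [AddCommGroup H] [Module A H] : (tens (A := A) H).Additive where
  map_add {X Y f g} := ModuleCat.hom_ext (LinearMap.rTensor_add (R := A) H f.hom g.hom)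

instance linear_tens (H : Type u) [AddCommGroup H] [Module A H] : Functor.Linear A (tens (A := A) H) where
  map_smul {X Y} f a := ModuleCat.hom_ext (LinearMap.rTensor_smul H a f.hom)

theorem inv_smul_pow {H : Type u} [AddCommGroup H] [Module A H] {s : A} (σ : H →ₗ[A] H)
    (hσ : ∀ h, σ (s • h) = h) : ∀ (e : ℕ) (h : H), (σ ^ e) (s ^ e • h) = h
  | 0, h => by rw [pow_zero, pow_zero, one_smul]; rfl
  | e + 1, h => by
    rw [pow_succ σ, Module.End.mul_apply, pow_succ' s, mul_smul, hσ]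
    exact inv_smul_pow σ hσ e h

variable {l : List A}

/-- Koszul cycles of modules killed by `J₀` on which some element of `S` is invertible die uniformly. -/
theorem uniform (S : Finset A) (J₀ : Ideal A) (t : ℕ)
    (hd : ∀ s ∈ S, ∀ (N : Type u) [AddCommGroup N] [Module A N],
      (∀ a ∈ J₀, ∀ x : N, a • x = 0) → Dies l s t (ModuleCat.of A N)) (n : ℕ) :
    ∃ (m : ℕ) (h : n ≤ m), ∀ (H : Type u) [AddCommGroup H] [Module A H],
      (∀ a ∈ J₀, ∀ x : H, a • x = 0) → (∃ s ∈ S, Function.Bijective fun x : H => s • x) →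
        ∀ w : (kos (ModuleCat.of A H) l).X (t + 1) m, (kos (ModuleCat.of A H) l).d t m w = 0 →
          ∃ u, (kos (ModuleCat.of A H) l).d (t + 1) n u = (kos (ModuleCat.of A H) l).φ (t + 1) h w := by
  classical
  let K := kosA l
  let X := K.X (t + 1) n
  let P : Submodule A X := LinearMap.range (K.d (t + 1) n).hom ⊔ J₀ • ⊤
  have key : ∀ s : A, ∃ (m : ℕ) (h : n ≤ m) (e : ℕ), s ∈ S → ∃ v : K.X t m ⟶ ModuleCat.of A (X ⧸ P),
      s ^ e • (K.φ (t + 1) h ≫ ModuleCat.ofHom P.mkQ) = K.d t m ≫ v := fun s => by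
    by_cases hs : s ∈ S
    · obtain ⟨m, h, e, v, hv⟩ := hd s hs (X ⧸ P) (fun a ha x => by
        obtain ⟨x, rfl⟩ := P.mkQ_surjective x
        rw [← map_smul]
        exact (Submodule.Quotient.mk_eq_zero P).2 (Submodule.mem_sup_right (Submodule.smul_mem_smul ha trivial)))
        n (ModuleCat.ofHom P.mkQ) (ModuleCat.hom_ext (LinearMap.ext fun x =>
          (Submodule.Quotient.mk_eq_zero P).2 (Submodule.mem_sup_left ⟨x, rfl⟩)))
      exact ⟨m, h, e, fun _ => ⟨v, hv⟩⟩
    · exact ⟨n, le_rfl, 0, fun h => absurd h hs⟩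
  choose m hm e hv using key
  refine ⟨max n (S.sup m), le_max_left _ _, fun H _ _ hJ hS w hw => ?_⟩
  obtain ⟨s, hs, hbij⟩ := hS
  have hms : m s ≤ max n (S.sup m) := (Finset.le_sup hs).trans (le_max_right _ _)
  obtain ⟨v, hv⟩ := hv s hs
  let Ψ := tens (A := A) H
  let L := kos (ModuleCat.of A H) l
  let e₀ : Ψ.obj (ModuleCat.of A A) ≅ ModuleCat.of A H := (TensorProduct.lid A H).toModuleIso
  let μ : MapIso Ψ K L := kosMap Ψ e₀ l
  let w' : Ψ.obj (K.X (t + 1) (m s)) :=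
    Ψ.map (K.φ (t + 1) hms) ((μ.e (t + 1) (max n (S.sup m))).inv w)
  have hw' : Ψ.map (K.d t (m s)) w' = 0 := by
    refine ((ConcreteCategory.bijective_of_isIso (μ.e t (m s)).hom).injective
      (Eq.trans ?_ (map_zero _).symm))
    rw [← ModuleCat.comp_apply, ← μ.d_e, ModuleCat.comp_apply]
    show L.d t (m s) ((μ.e (t + 1) (m s)).hom w') = 0
    have h1 : (μ.e (t + 1) (m s)).hom w' = L.φ (t + 1) hms w := by
      show (μ.e (t + 1) (m s)).hom (Ψ.map (K.φ (t + 1) hms) _) = _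
      rw [← ModuleCat.comp_apply, ← μ.φ_e, ModuleCat.comp_apply, Iso.inv_hom_id_apply]
    rw [h1, ← ModuleCat.comp_apply, ← L.d_comm, ModuleCat.comp_apply, hw, map_zero]
  let y := Ψ.map (K.φ (t + 1) (hm s)) w'
  have hy : Ψ.map (ModuleCat.ofHom P.mkQ) (s ^ e s • y) = 0 := by
    rw [map_smul, map_comp_apply Ψ, ← map_smul_apply Ψ, hv, ← map_comp_apply Ψ, hw', map_zero]
  obtain ⟨z, hz⟩ := (rTensor_exact H (f := P.subtype) (g := P.mkQ) (LinearMap.exact_subtype_mkQ P)
    P.mkQ_surjective (s ^ e s • y)).1 hy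
  obtain ⟨z', hz'⟩ : ∃ z', Ψ.map (K.d (t + 1) n) z' = s ^ e s • y := by
    rw [← hz]
    clear hz hy
    induction z using TensorProduct.induction_on with
    | zero => exact ⟨0, (map_zero _).trans (map_zero _).symm⟩
    | add a b ha hb =>
      obtain ⟨a', ha'⟩ := ha
      obtain ⟨b', hb'⟩ := hb
      exact ⟨a' + b', ((map_add _ _ _).trans (congrArg₂ (· + ·) ha' hb')).trans (map_add _ _ _).symm⟩
    | tmul p h =>
      obtain ⟨_, ⟨d', rfl⟩, r, hr, hp⟩ := Submodule.mem_sup.1 p.2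
      refine ⟨d' ⊗ₜ[A] h, ?_⟩
      show (K.d (t + 1) n).hom d' ⊗ₜ[A] h = (p : X) ⊗ₜ[A] h
      rw [← hp, TensorProduct.add_tmul]
      have h0 : r ⊗ₜ[A] h = 0 := by
        refine Submodule.smul_induction_on hr (fun a ha x _ => ?_) fun a b ha hb => ?_
        · rw [TensorProduct.smul_tmul, hJ a ha, TensorProduct.tmul_zero]
        · rw [TensorProduct.add_tmul, ha, hb, add_zero]
      rw [h0, add_zero]
  let σ : H →ₗ[A] H := (LinearEquiv.ofBijective (s • LinearMap.id : H →ₗ[A] H) hbij).symm.toLinearMap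
  have hσ : ∀ h : H, σ (s • h) = h := fun h =>
    (LinearEquiv.ofBijective (s • LinearMap.id : H →ₗ[A] H) hbij).symm_apply_apply h
  let η : ∀ Z : ModuleCat.{u} A, Ψ.obj Z ⟶ Ψ.obj Z := fun Z => ModuleCat.ofHom ((σ ^ e s).lTensor Z)
  have hinv₀ : ∀ a : X ⊗[A] H, (σ ^ e s).lTensor X (s ^ e s • a) = a := fun a => by
    induction a using TensorProduct.induction_on with
    | zero => rw [smul_zero, map_zero]
    | add a b ha hb => rw [smul_add, map_add, ha, hb]
    | tmul x h => rw [TensorProduct.smul_tmul', TensorProduct.smul_tmul, LinearMap.lTensor_tmul, inv_smul_pow σ hσ]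
  have hinv : ∀ a : Ψ.obj X, η X (s ^ e s • a) = a := hinv₀
  have hcomm₀ : Ψ.map (K.d (t + 1) n) ≫ η X = η (K.X (t + 2) n) ≫ Ψ.map (K.d (t + 1) n) :=
    ModuleCat.hom_ext (TensorProduct.ext' fun x h => rfl)
  have hcomm : ∀ a, η X (Ψ.map (K.d (t + 1) n) a) = Ψ.map (K.d (t + 1) n) (η (K.X (t + 2) n) a) := fun a =>
    congrArg (fun k => k a) hcomm₀
  refine ⟨(μ.e (t + 2) n).hom (η (K.X (t + 2) n) z'), ?_⟩
  rw [← ModuleCat.comp_apply, μ.d_e, ModuleCat.comp_apply, ← hcomm, hz', hinv]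
  show (μ.e (t + 1) n).hom (Ψ.map (K.φ (t + 1) (hm s)) (Ψ.map (K.φ (t + 1) hms) _)) = L.φ (t + 1) _ w
  rw [map_φ_comp Ψ, ← ModuleCat.comp_apply, ← μ.φ_e, ModuleCat.comp_apply, Iso.inv_hom_id_apply]

/-- Transfer to the image of a tower under a linear functor. -/
theorem exists_boundary_map {C : Type*} [Category C] [Preadditive C] [Linear A C] [HasBinaryBiproducts C]
    [HasZeroObject C] (Φ : C ⥤ ModuleCat.{u} A) [Φ.Additive] [Functor.Linear A Φ] (M : C) {t n m : ℕ} (h : n ≤ m)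
    (hker : ∀ w : (kos (Φ.obj M) l).X (t + 1) m, (kos (Φ.obj M) l).d t m w = 0 →
      ∃ u, (kos (Φ.obj M) l).d (t + 1) n u = (kos (Φ.obj M) l).φ (t + 1) h w)
    (w : Φ.obj ((kos M l).X (t + 1) m)) (hw : Φ.map ((kos M l).d t m) w = 0) :
    ∃ u, Φ.map ((kos M l).d (t + 1) n) u = Φ.map ((kos M l).φ (t + 1) h) w := by
  let μ := kosMap Φ (Iso.refl (Φ.obj M)) l
  obtain ⟨u, hu⟩ := hker ((μ.e (t + 1) m).hom w) (by
    rw [← ModuleCat.comp_apply, μ.d_e, ModuleCat.comp_apply, hw, map_zero])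
  refine ⟨(μ.e (t + 2) n).inv u, (ConcreteCategory.bijective_of_isIso (μ.e (t + 1) n).hom).injective ?_⟩
  rw [← ModuleCat.comp_apply, ← μ.d_e, ModuleCat.comp_apply, Iso.inv_hom_id_apply, hu, ← ModuleCat.comp_apply,
    μ.φ_e, ModuleCat.comp_apply]

end Groth.Agent.AlgSec27
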